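import Mathlib

/-!
Arithmetic for the degrees of the characters of the principal `p`-block of a simple group with
`1 + k p < p ^ 2` Sylow `p`-subgroups.
-/

set_option autoImplicit false

namespace Cfsg.Agent.H570.Arith

/-- The first Diophantine equation. -/
theorem dioph_one {p c u g : ℕ} (hp : 2 ≤ p) (hu : 1 ≤ u) (hc : 1 ≤ c) (hg : 1 ≤ g) (hgp : g < p)
    (h : c * (1 + u * p) = (p - 1) * g) : c + g = p ∧ c * (u + 1) = p - 1 := by
  obtain ⟨r, rfl⟩ : ∃ r, p = r + 1 := ⟨p - 1, by omega⟩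
  rw [show r + 1 - 1 = r by omega] at h ⊢
  have hcr : c < r + 1 := by
    by_contra hcon
    push Not at hcon
    have h1 : (r + 1) * (1 + u * (r + 1)) ≤ c * (1 + u * (r + 1)) := Nat.mul_le_mul_right _ hcon
    have h2 : r * g ≤ r * (r + 1) := Nat.mul_le_mul_left _ hgp.le
    have h3 : 1 * (r + 1) ≤ u * (r + 1) := Nat.mul_le_mul_right _ hu
    nlinarith
  have h1 : c + g + c * u * (r + 1) = (r + 1) * g := by
    have : c * (1 + u * (r + 1)) + g = r * g + g := by rw [h]
    linarith [this, show c * (1 + u * (r + 1)) = c + c * u * (r + 1) by ring,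
      show r * g + g = (r + 1) * g by ring]
  have h2 : (r + 1) ∣ c + g := by
    have h3 : (r + 1) ∣ c + g + c * u * (r + 1) := h1 ▸ Dvd.intro _ rfl
    exact (Nat.dvd_add_left (Dvd.intro_left _ rfl)).1 h3
  obtain ⟨j, hj⟩ := h2
  have hj1 : j = 1 := by
    rcases Nat.lt_or_ge j 2 with h | h
    · interval_cases j
      · omega
      · rfl
    · exfalso
      have : (r + 1) * 2 ≤ (r + 1) * j := Nat.mul_le_mul_left _ h
      omega
  rw [hj1, mul_one] at hj
  refine ⟨hj, ?_⟩
  have h3 : (r + 1) * (1 + c * u) = (r + 1) * g := by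
    rw [← h1, hj]; ring
  have h4 := Nat.eq_of_mul_eq_mul_left (Nat.succ_pos r) h3
  have : c * (u + 1) = c * u + c := by ring
  omega

/-- The second Diophantine equation. -/
theorem dioph_two {p c w k : ℕ} (hp : 2 ≤ p) (hw : 2 ≤ w) (hc : 1 ≤ c) (hk : 1 ≤ k) (hkp : k < p)
    (h : c * (w * p - 1) = (p - 1) * (k + w)) :
    (c = 1 ∧ w = 1 + k * (p - 1)) ∨ (2 ≤ c ∧ c * (w - 1) = p - 1 ∧ k + w = c + p) := by
  obtain ⟨r, rfl⟩ : ∃ r, p = r + 1 := ⟨p - 1, by omega⟩
  obtain ⟨v, rfl⟩ : ∃ v, w = v + 1 := ⟨w - 1, by omega⟩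
  rw [show r + 1 - 1 = r by omega] at h ⊢
  rw [show v + 1 - 1 = v by omega]
  have h0 : (v + 1) * (r + 1) - 1 = v * (r + 1) + r := by
    have : (v + 1) * (r + 1) = v * (r + 1) + r + 1 := by ring
    omega
  rw [h0, ← add_assoc] at h
  -- `c v p + c r = r (k + v + 1)`
  have h1 : c * v * (r + 1) + (k + v + 1) + c * r = (r + 1) * (k + v + 1) := by
    have : c * (v * (r + 1) + r) + (k + v + 1) = r * (k + v + 1) + (k + v + 1) := by rw [h]
    linarith [this, show c * (v * (r + 1) + r) = c * v * (r + 1) + c * r by ring,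
      show r * (k + v + 1) + (k + v + 1) = (r + 1) * (k + v + 1) by ring]
  -- `k + v + 1 ≡ c mod p`; first `c ≤ k + v + 1`
  have hcle : c ≤ k + v + 1 := by
    by_contra hcon
    push Not at hcon
    have h2 : (k + v + 2) * (v * (r + 1) + r) ≤ c * (v * (r + 1) + r) :=
      Nat.mul_le_mul_right _ hcon
    have h3 : r * (k + v + 1) ≤ r * (k + v + 2) := Nat.mul_le_mul_left _ (by omega)
    have h4 : 1 ≤ v := by omega
    nlinarith [mul_pos (show 0 < v by omega) (show 0 < r + 1 by omega)]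
  obtain ⟨x, hx⟩ : ∃ x, k + v + 1 = c + x := ⟨k + v + 1 - c, by omega⟩
  have h2 : x + c * v * (r + 1) + c * (r + 1) = (r + 1) * (c + x) := by
    rw [← hx]
    rw [hx] at h1
    rw [hx]
    linarith [h1, show c * (r + 1) = c * r + c by ring]
  have h3 : (r + 1) ∣ x := by
    have h4 : (r + 1) ∣ x + (c * v * (r + 1) + c * (r + 1)) := by
      rw [← add_assoc, h2]; exact Dvd.intro _ rfl
    refine (Nat.dvd_add_left ?_).1 h4
    exact dvd_add (Dvd.intro_left _ rfl) (Dvd.intro_left _ rfl)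
  obtain ⟨i, rfl⟩ := h3
  have h5 : (r + 1) * (i + c * v + c) = (r + 1) * (c + (r + 1) * i) := by
    rw [← h2]; ring
  have h6 := Nat.eq_of_mul_eq_mul_left (Nat.succ_pos r) h5
  -- `c v = r i`
  have h7 : c * v = r * i := by
    have : (r + 1) * i = r * i + i := by ring
    omega
  have hi : 1 ≤ i := by
    rcases Nat.eq_zero_or_pos i with h | h
    · rw [h, mul_zero] at h7
      rcases Nat.mul_eq_zero.1 h7 with h | h <;> omega
    · exact h
  rcases Nat.lt_or_ge c 2 with hc2 | hc2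
  · left
    have hc1 : c = 1 := by omega
    subst hc1
    rw [one_mul] at h7
    refine ⟨rfl, ?_⟩
    have h8 : k = i := by
      have : (r + 1) * i = r * i + i := by ring
      omega
    rw [h8, h7]; ring
  · right
    have hi1 : i = 1 := by
      by_contra hne
      have hi2 : 2 ≤ i := by omega
      obtain ⟨y, rfl⟩ : ∃ y, i = y + 2 := ⟨i - 2, by omega⟩
      -- `v ≥ c + (i - 1) p`
      have h8 : c + (y + 1) * (r + 1) ≤ v := by
        have : (r + 1) * (y + 2) = (y + 1) * (r + 1) + (r + 1) := by ring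
        omega
      have h9 : 2 * (c + (y + 1) * (r + 1)) ≤ c * v := Nat.mul_le_mul hc2 h8
      rw [h7] at h9
      nlinarith
    subst hi1
    rw [mul_one] at h7 hx
    exact ⟨hc2, h7, by omega⟩

/-- `a b = p - 1`, `a ≤ b`, `k = p + a - b - 1`. -/
structure AB (p k a b : ℕ) : Prop where
  mul : a * b = p - 1
  le : a ≤ b
  eq : k + b + 1 = p + a

theorem AB.n_eq {p k a b : ℕ} (h : AB p k a b) (hp : 2 ≤ p) : 1 + k * p = (p - b) * (p + a) := by
  have h1 := h.mul
  have h2 := h.eq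
  have hb : b ≤ p - 1 := by
    rcases Nat.eq_zero_or_pos a with h0 | h0
    · rw [h0, zero_mul] at h1; omega
    · rw [← h1]; exact Nat.le_mul_of_pos_left _ h0
  obtain ⟨r, rfl⟩ : ∃ r, p = r + 1 := ⟨p - 1, by omega⟩
  rw [show r + 1 - 1 = r by omega] at h1 hb
  obtain ⟨s, rfl⟩ : ∃ s, r = b + s := ⟨r - b, by omega⟩
  rw [show b + s + 1 - b = s + 1 by omega]
  have h3 : k = s + a := by omega
  subst h3
  nlinarith

theorem AB.unique {p k a b a' b' : ℕ} (h : AB p k a b) (h' : AB p k a' b') (hp : 2 ≤ p) :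
    a = a' ∧ b = b' := by
  have h1 := h.mul
  have h2 := h.eq
  have h3 := h'.mul
  have h4 := h'.eq
  have h5 : b + a' = b' + a := by omega
  rcases Nat.lt_trichotomy a a' with hlt | heq | hlt
  · exfalso
    have h6 : b < b' := by omega
    have h7 : a * b < a' * b' := by
      rcases Nat.eq_zero_or_pos b with h0 | h0
      · rw [h0, mul_zero] at h1; omega
      · exact Nat.mul_lt_mul'' hlt h6
    omega
  · exact ⟨heq, by omega⟩
  · exfalso
    have h6 : b' < b := by omega
    have h7 : a' * b' < a * b := Nat.mul_lt_mul'' hlt h6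
    omega

/-- Degrees `1 + p u` dividing `n e`. -/
theorem pos_case {p e t k u f : ℕ} (hp : 2 ≤ p) (ht : e * t = p - 1) (hk : k < p)
    (hu : 1 ≤ u) (hf : f = 1 + p * u) (hd : f ∣ (1 + k * p) * e) :
    f = 1 + k * p ∨ ∃ a b, AB p k a b ∧ a ∣ e ∧ a = u + 1 ∧ f = a * (p - b) := by
  have ht0 : 0 < t := by
    rcases Nat.eq_zero_or_pos t with h | h
    · rw [h, mul_zero] at ht; omega
    · exact h
  have he0 : 0 < e := by
    rcases Nat.eq_zero_or_pos e with h | h
    · rw [h, zero_mul] at ht; omega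
    · exact h
  have hep : e < p := by
    have : e * 1 ≤ e * t := Nat.mul_le_mul_left _ ht0
    omega
  obtain ⟨s, hs⟩ := hd
  -- `s ≡ e`
  have h1 : s ≡ e [MOD p] := by
    have h2 : f * s ≡ 1 * s [MOD p] := by
      apply Nat.ModEq.mul_right
      rw [hf]; simp [Nat.ModEq]
    have h3 : (1 + k * p) * e ≡ 1 * e [MOD p] := by
      apply Nat.ModEq.mul_right
      simp [Nat.ModEq]
    rw [one_mul] at h2 h3
    rw [hs] at h3
    exact h2.symm.trans h3
  have h2 : s % p = e := by rw [h1, Nat.mod_eq_of_lt hep]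
  obtain ⟨j, hj⟩ : ∃ j, s = e + j * p := ⟨s / p, by rw [← h2]; exact (Nat.mod_add_div' s p).symm⟩
  rcases Nat.eq_zero_or_pos j with hj0 | hj0
  · left
    rw [hj0, zero_mul, add_zero] at hj
    rw [hj] at hs
    exact (Nat.eq_of_mul_eq_mul_right he0 hs).symm
  · right
    -- `j + u e + u j p = k e`
    have h3 : p * (j + u * e + u * j * p) = p * (k * e) := by
      have : e + p * (k * e) = e + p * (j + u * e + u * j * p) := by
        calc e + p * (k * e) = (1 + k * p) * e := by ring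
          _ = f * s := hs
          _ = _ := by rw [hf, hj]; ring
      omega
    have h4 := Nat.eq_of_mul_eq_mul_left (show 0 < p by omega) h3
    have huk : u < k := by
      by_contra hcon
      push Not at hcon
      have : k * e ≤ u * e := Nat.mul_le_mul_right _ hcon
      omega
    obtain ⟨g, rfl⟩ : ∃ g, k = u + g := ⟨k - u, by omega⟩
    have h5 : (t * j) * (1 + u * p) = (p - 1) * g := by
      have h6 : j * (1 + u * p) = e * g := by
        have : u * e + j * (1 + u * p) = u * e + e * g := by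
          calc u * e + j * (1 + u * p) = j + u * e + u * j * p := by ring
            _ = (u + g) * e := h4
            _ = u * e + e * g := by ring
        omega
      rw [mul_assoc, h6, ← ht]; ring
    obtain ⟨h6, h7⟩ := dioph_one hp hu (Nat.mul_pos ht0 hj0) (by omega) (by omega) h5
    refine ⟨u + 1, t * j, ⟨by rw [mul_comm]; exact h7, ?_, by omega⟩, ?_, rfl, ?_⟩
    · omega
    · -- `e t = t j (u + 1)`
      refine ⟨j, Nat.eq_of_mul_eq_mul_right ht0 ?_⟩
      rw [ht, ← h7]; ring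
    · rw [hf]
      obtain ⟨r, hr⟩ : ∃ r, p = r + 1 := ⟨p - 1, by omega⟩
      have h8 : p - t * j = g := by omega
      rw [h8]
      have h9 : t * j * (u + 1) + 1 = p := by omega
      have h10 : (t * j + g) * u + g = t * j * (u + 1) + 1 + (g * (u + 1)) - (t * j + 1) := by
        have : t * j * (u + 1) + 1 + (g * (u + 1)) = (t * j + g) * u + g + (t * j + 1) := by ring
        omega
      have h11 : 1 + p * u = 1 + (t * j + g) * u := by rw [h6]
      rw [h11]
      have h12 : (u + 1) * g + (t * j * (u + 1) + 1) = (t * j + g) * u + (t * j + g) + 1 := by ring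
      omega

/-- Degrees `p w - 1` dividing `n e`. -/
theorem neg_case {p e t k w f : ℕ} (hp : 2 ≤ p) (ht : e * t = p - 1) (hk1 : 1 ≤ k) (hk : k < p)
    (hw : 2 ≤ w) (hf : f + 1 = p * w) (hd : f ∣ (1 + k * p) * e) :
    (t = 1 ∧ f = (p - 1) * (1 + k * p)) ∨
      ∃ a b, AB p k a b ∧ b ∣ e ∧ b + 1 = w ∧ 2 ≤ a ∧ f = b * (p + a) := by
  have ht0 : 0 < t := by
    rcases Nat.eq_zero_or_pos t with h | h
    · rw [h, mul_zero] at ht; omega
    · exact h
  have he0 : 0 < e := by
    rcases Nat.eq_zero_or_pos e with h | h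
    · rw [h, zero_mul] at ht; omega
    · exact h
  have hep : e < p := by
    have : e * 1 ≤ e * t := Nat.mul_le_mul_left _ ht0
    omega
  obtain ⟨s, hs⟩ := hd
  have h0 : (1 + k * p) * e = e + p * (k * e) := by ring
  have hs0 : e + p * (k * e) + s = p * (w * s) := by
    calc e + p * (k * e) + s = f * s + s := by rw [← h0, hs]
      _ = (f + 1) * s := by ring
      _ = p * (w * s) := by rw [hf]; ring
  have h1 : p ∣ e + s := by
    have h2 : p ∣ p * (k * e) + (e + s) := by
      have : p * (k * e) + (e + s) = p * (w * s) := by omega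
      rw [this]; exact Dvd.intro _ rfl
    exact (Nat.dvd_add_right (Dvd.intro _ rfl)).1 h2
  obtain ⟨j, hj⟩ := h1
  have hj1 : 1 ≤ j := by
    rcases Nat.eq_zero_or_pos j with h | h
    · rw [h, mul_zero] at hj; omega
    · exact h
  -- `j + k e = w s`
  have h2 : p * (j + k * e) = p * (w * s) := by
    rw [← hs0, mul_add, ← hj]; ring
  have h3 := Nat.eq_of_mul_eq_mul_left (show 0 < p by omega) h2
  have h4 : (t * j) * (w * p - 1) = (p - 1) * (k + w) := by
    have h5 : j * (w * p - 1) = e * (k + w) := by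
      obtain ⟨x, hx⟩ : ∃ x, w * p = x + 1 := ⟨w * p - 1, by
        have : 1 ≤ w * p := Nat.mul_pos (by omega) (by omega)
        omega⟩
      rw [hx, Nat.add_sub_cancel]
      have h6 : w * e + w * s = j * x + j := by
        calc w * e + w * s = w * (e + s) := by ring
          _ = j * (w * p) := by rw [hj]; ring
          _ = j * x + j := by rw [hx]; ring
      have h7 : e * (k + w) = w * e + k * e := by ring
      omega
    rw [mul_assoc, h5, ← ht]; ring
  rcases dioph_two hp hw (Nat.mul_pos ht0 hj1) hk1 hk h4 with ⟨h5, h6⟩ | ⟨h5, h6, h7⟩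
  · left
    have ht1 : t = 1 := Nat.eq_one_of_mul_eq_one_right h5
    refine ⟨ht1, ?_⟩
    have h8 : f + 1 = (p - 1) * (1 + k * p) + 1 := by
      rw [hf, h6]
      obtain ⟨r, rfl⟩ : ∃ r, p = r + 1 := ⟨p - 1, by omega⟩
      rw [show r + 1 - 1 = r by omega]
      ring
    omega
  · right
    refine ⟨t * j, w - 1, ⟨h6, ?_, by omega⟩, ?_, by omega, h5, ?_⟩
    · omega
    · refine ⟨j, Nat.eq_of_mul_eq_mul_right ht0 ?_⟩
      rw [ht, ← h6]; ring
    · obtain ⟨v, rfl⟩ : ∃ v, w = v + 1 := ⟨w - 1, by omega⟩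
      rw [show v + 1 - 1 = v by omega] at h6 ⊢
      have h8 : f + 1 = v * (p + t * j) + 1 := by
        rw [hf]
        have : v * (p + t * j) = v * p + t * j * v := by ring
        rw [this, h6]
        have : p * (v + 1) = v * p + p := by ring
        omega
      omega

/-- Exceptional degrees `e + p m` dividing `n e`. -/
theorem excp_case {p e t k m z : ℕ} (hp : 2 ≤ p) (ht : e * t = p - 1) (hk : k < p)
    (hm : 1 ≤ m) (hz : z = e + p * m) (hd : z ∣ (1 + k * p) * e) :
    z = (1 + k * p) * e ∨ ∃ a b, AB p k a b ∧ e = a * m ∧ 2 ≤ a ∧ z = m * (p + a) := by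
  have ht0 : 0 < t := by
    rcases Nat.eq_zero_or_pos t with h | h
    · rw [h, mul_zero] at ht; omega
    · exact h
  have he0 : 0 < e := by
    rcases Nat.eq_zero_or_pos e with h | h
    · rw [h, zero_mul] at ht; omega
    · exact h
  have hep : e < p := by
    have : e * 1 ≤ e * t := Nat.mul_le_mul_left _ ht0
    omega
  have hcop : Nat.Coprime p e := by
    have h1 : Nat.Coprime p (p - 1) := by
      rw [Nat.coprime_self_sub_right (by omega)]
      exact Nat.coprime_one_right p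
    exact h1.coprime_dvd_right (Dvd.intro _ ht)
  obtain ⟨s, hs⟩ := hd
  have h0 : p ∣ (s - 1) ∧ 1 ≤ s := by
    have hs1 : 1 ≤ s := by
      rcases Nat.eq_zero_or_pos s with h | h
      · rw [h, mul_zero] at hs
        have : 0 < (1 + k * p) * e := by positivity
        omega
      · exact h
    refine ⟨?_, hs1⟩
    obtain ⟨x, rfl⟩ : ∃ x, s = x + 1 := ⟨s - 1, by omega⟩
    rw [Nat.add_sub_cancel]
    have h1 : p * (k * e) = e * x + p * (m * (x + 1)) := by
      have : e + p * (k * e) = e + (e * x + p * (m * (x + 1))) := by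
        calc e + p * (k * e) = (1 + k * p) * e := by ring
          _ = z * (x + 1) := hs
          _ = _ := by rw [hz]; ring
      omega
    have h2 : p ∣ e * x := by
      have : p ∣ e * x + p * (m * (x + 1)) := h1 ▸ Dvd.intro _ rfl
      exact (Nat.dvd_add_left (Dvd.intro _ rfl)).1 this
    exact hcop.dvd_of_dvd_mul_left h2
  obtain ⟨⟨j, hj⟩, hs1⟩ := h0
  have hsj : s = 1 + p * j := by omega
  rcases Nat.eq_zero_or_pos j with hj0 | hj0
  · left
    rw [hj0, mul_zero, add_zero] at hsj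
    rw [hs, hsj, mul_one]
  · right
    have h3 : p * (j * e + m + m * j * p) = p * (k * e) := by
      have : e + p * (k * e) = e + p * (j * e + m + m * j * p) := by
        calc e + p * (k * e) = (1 + k * p) * e := by ring
          _ = z * s := hs
          _ = _ := by rw [hz, hsj]; ring
      omega
    have h4 := Nat.eq_of_mul_eq_mul_left (show 0 < p by omega) h3
    have huk : j < k := by
      by_contra hcon
      push Not at hcon
      have : k * e ≤ j * e := Nat.mul_le_mul_right _ hcon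
      omega
    obtain ⟨g, rfl⟩ : ∃ g, k = j + g := ⟨k - j, by omega⟩
    have h5 : (t * m) * (1 + j * p) = (p - 1) * g := by
      have h6 : m * (1 + j * p) = e * g := by
        have : j * e + m * (1 + j * p) = j * e + e * g := by
          calc j * e + m * (1 + j * p) = j * e + m + m * j * p := by ring
            _ = (j + g) * e := h4
            _ = j * e + e * g := by ring
        omega
      rw [mul_assoc, h6, ← ht]; ring
    obtain ⟨h6, h7⟩ := dioph_one hp hj0 (Nat.mul_pos ht0 hm) (by omega) (by omega) h5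
    have h8 : e = (j + 1) * m := by
      refine Nat.eq_of_mul_eq_mul_right ht0 ?_
      rw [ht, ← h7]; ring
    refine ⟨j + 1, t * m, ⟨by rw [mul_comm]; exact h7, ?_, by omega⟩, h8, by omega, ?_⟩
    · omega
    · rw [hz, h8]; ring

/-- Exceptional degrees `p w - e` dividing `n e`. -/
theorem excn_case {p e t k w z : ℕ} (hp : 2 ≤ p) (ht : e * t = p - 1) (hk1 : 1 ≤ k) (hk : k < p)
    (hw : 2 ≤ w) (hz : z + e = p * w) (hd : z ∣ (1 + k * p) * e) :
    t * z = 1 + k * p ∨ ∃ a b, AB p k a b ∧ e = b * w ∧ z = w * (p - b) := by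
  have ht0 : 0 < t := by
    rcases Nat.eq_zero_or_pos t with h | h
    · rw [h, mul_zero] at ht; omega
    · exact h
  have he0 : 0 < e := by
    rcases Nat.eq_zero_or_pos e with h | h
    · rw [h, zero_mul] at ht; omega
    · exact h
  have hep : e < p := by
    have : e * 1 ≤ e * t := Nat.mul_le_mul_left _ ht0
    omega
  have hcop : Nat.Coprime p e := by
    have h1 : Nat.Coprime p (p - 1) := by
      rw [Nat.coprime_self_sub_right (by omega)]
      exact Nat.coprime_one_right p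
    exact h1.coprime_dvd_right (Dvd.intro _ ht)
  obtain ⟨s, hs⟩ := hd
  -- `(k e) p + e + e s = p w s`
  have h0 : p * (k * e) + e * (s + 1) = p * (w * s) := by
    calc p * (k * e) + e * (s + 1) = (1 + k * p) * e + e * s := by ring
      _ = (z + e) * s := by rw [hs]; ring
      _ = p * (w * s) := by rw [hz]; ring
  have h1 : p ∣ s + 1 := by
    have h2 : p ∣ p * (k * e) + e * (s + 1) := h0 ▸ Dvd.intro _ rfl
    have h3 : p ∣ e * (s + 1) := (Nat.dvd_add_right (Dvd.intro _ rfl)).1 h2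
    exact hcop.dvd_of_dvd_mul_left h3
  obtain ⟨j, hj⟩ := h1
  have hj1 : 1 ≤ j := by
    rcases Nat.eq_zero_or_pos j with h | h
    · rw [h, mul_zero] at hj; omega
    · exact h
  -- `k e + e j = w s`
  have h2 : p * (k * e + e * j) = p * (w * s) := by
    rw [← h0, hj]; ring
  have h3 := Nat.eq_of_mul_eq_mul_left (show 0 < p by omega) h2
  have hsj : s = j * p - 1 := by
    have : j * p = p * j := by ring
    omega
  have h4 : (t * w) * (j * p - 1) = (p - 1) * (k + j) := by
    rw [← hsj, mul_assoc, ← h3, ← ht]; ring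
  rcases Nat.lt_or_ge j 2 with hj2 | hj2
  · left
    have hj' : j = 1 := by omega
    subst hj'
    rw [one_mul] at h4
    have h5 : t * w = k + 1 :=
      Nat.eq_of_mul_eq_mul_right (show 0 < p - 1 by omega) (by rw [h4]; ring)
    have h6 : t * z + (p - 1) = 1 + k * p + (p - 1) := by
      calc t * z + (p - 1) = t * (z + e) := by rw [← ht]; ring
        _ = p * (t * w) := by rw [hz]; ring
        _ = p * (k + 1) := by rw [h5]
        _ = k * p + p := by ring
        _ = _ := by omega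
    omega
  · right
    rcases dioph_two hp hj2 (Nat.mul_pos ht0 (by omega)) hk1 hk h4 with ⟨h5, h6⟩ | ⟨h5, h6, h7⟩
    · exfalso
      have : w = 1 := Nat.eq_one_of_mul_eq_one_left h5
      omega
    · have h8 : e = (j - 1) * w := by
        refine Nat.eq_of_mul_eq_mul_right ht0 ?_
        rw [ht, ← h6]; ring
      refine ⟨t * w, j - 1, ⟨h6, by omega, by omega⟩, h8, ?_⟩
      have h9 : j - 1 ≤ p := by
        have : 1 * (j - 1) ≤ t * w * (j - 1) := Nat.mul_le_mul_right _ (by omega)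
        omega
      have h10 : w * (p - (j - 1)) + w * (j - 1) = p * w := by
        rw [← mul_add, Nat.sub_add_cancel h9]; ring
      have h11 : w * (j - 1) = e := by rw [h8]; ring
      omega

theorem dvd_t {ι : Type*} [DecidableEq ι] {NE : Finset ι} {i₁ : ι} (hi₁ : i₁ ∈ NE) {ε : ι → ℤ}
    {f : ι → ℕ} {z : ℕ} {d : ℤ} (hf₁ : f i₁ = 1) (hε₁ : ε i₁ = 1)
    (hrel : ∑ i ∈ NE, ε i * f i = d * z) (N t : ℕ)
    (h1 : ∀ i ∈ NE, i ≠ i₁ → N ∣ t * f i) (h2 : N ∣ t * z) : N ∣ t := by
  have h3 : (t : ℤ) * (d * z) = t + ∑ i ∈ NE.erase i₁, (t : ℤ) * (ε i * f i) := by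
    rw [← hrel, ← Finset.add_sum_erase _ _ hi₁, hf₁, hε₁, mul_add, Finset.mul_sum]
    simp
  have h4 : (N : ℤ) ∣ (t : ℤ) * (d * z) := by
    have : (N : ℤ) ∣ ((t * z : ℕ) : ℤ) := Int.natCast_dvd_natCast.2 h2
    rw [show (t : ℤ) * (d * z) = ((t * z : ℕ) : ℤ) * d by push_cast; ring]
    exact this.mul_right _
  have h5 : (N : ℤ) ∣ ∑ i ∈ NE.erase i₁, (t : ℤ) * (ε i * f i) := by
    refine Finset.dvd_sum fun i hi => ?_
    have : (N : ℤ) ∣ ((t * f i : ℕ) : ℤ) :=
      Int.natCast_dvd_natCast.2 (h1 i (Finset.mem_of_mem_erase hi) (Finset.ne_of_mem_erase hi))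
    rw [show (t : ℤ) * (ε i * f i) = ((t * f i : ℕ) : ℤ) * ε i by push_cast; ring]
    exact this.mul_right _
  rw [h3] at h4
  have h6 := (Int.dvd_add_left h5).1 h4
  exact_mod_cast h6

/-- The two possible shapes of the exceptional degree. -/
def ExcShape (p e : ℕ) (d : ℤ) (z : ℕ) : Prop :=
  (d = 1 ∧ ∃ m, 2 ≤ m ∧ z = e + p * m) ∨ (d = -1 ∧ ∃ w, 3 ≤ w ∧ z + e = p * w)

/-- The four possibilities for the exceptional degree. -/
def ExcType (p e t k : ℕ) (d : ℤ) (z : ℕ) : Prop :=
  (d = 1 ∧ z = (1 + k * p) * e) ∨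
    (d = 1 ∧ ∃ a b m, AB p k a b ∧ e = a * m ∧ 2 ≤ m ∧ 2 ≤ a ∧ z = m * (p + a)) ∨
    (d = -1 ∧ t * z = 1 + k * p) ∨
    (d = -1 ∧ ∃ a b w, AB p k a b ∧ e = b * w ∧ 3 ≤ w ∧ z = w * (p - b))

theorem main {ι : Type*} {NE : Finset ι} {i₁ : ι} (hi₁ : i₁ ∈ NE) {ε : ι → ℤ} {f : ι → ℕ}
    {p e t k z : ℕ} {d : ℤ} (hpp : p.Prime) (ht : e * t = p - 1) (he : 2 ≤ e)
    (hk1 : 1 ≤ k) (hk : k < p) (hcard : NE.card = e) (hf₁ : f i₁ = 1) (hε₁ : ε i₁ = 1)
    (hdeg : ∀ i ∈ NE, i ≠ i₁ → (ε i = 1 ∧ ∃ u, 2 ≤ u ∧ f i = 1 + p * u) ∨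
      (ε i = -1 ∧ ∃ w, 3 ≤ w ∧ f i + 1 = p * w))
    (hdvd : ∀ i ∈ NE, f i ∣ (1 + k * p) * e)
    (hz : ExcShape p e d z)
    (hzd : z ∣ (1 + k * p) * e)
    (hrel : ∑ i ∈ NE, ε i * f i = d * z) :
    17 ≤ p ∧ ∃ a b, AB p k a b ∧ 3 ≤ a ∧ b ∣ e := by
  classical
  have hp : 2 ≤ p := hpp.two_le
  have ht0 : 0 < t := by
    rcases Nat.eq_zero_or_pos t with h | h
    · rw [h, mul_zero] at ht; omega
    · exact h
  have htp : t < p := by
    have : 1 * t ≤ e * t := Nat.mul_le_mul_right _ (by omega)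
    omega
  have hkp : p ≤ k * p := Nat.le_mul_of_pos_left _ hk1
  -- types of degrees
  have hT : ∀ i ∈ NE, i ≠ i₁ → (ε i = 1 ∧ f i = 1 + k * p) ∨
      (ε i = 1 ∧ ∃ a b, AB p k a b ∧ a ∣ e ∧ 3 ≤ a ∧ f i = a * (p - b)) ∨
      (ε i = -1 ∧ t = 1 ∧ f i = (p - 1) * (1 + k * p)) ∨
      (ε i = -1 ∧ ∃ a b, AB p k a b ∧ b ∣ e ∧ 2 ≤ a ∧ f i = b * (p + a)) := by
    intro i hi hne
    rcases hdeg i hi hne with ⟨h1, u, hu, hfu⟩ | ⟨h1, w, hw, hfw⟩
    · rcases pos_case hp ht hk (by omega) hfu (hdvd i hi) with h | ⟨a, b, h2, h3, h4, h5⟩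
      · exact Or.inl ⟨h1, h⟩
      · exact Or.inr (Or.inl ⟨h1, a, b, h2, h3, by omega, h5⟩)
    · rcases neg_case hp ht hk1 hk (by omega) hfw (hdvd i hi) with ⟨h, h'⟩ | ⟨a, b, h2, h3, h4, h5, h6⟩
      · exact Or.inr (Or.inr (Or.inl ⟨h1, h, h'⟩))
      · exact Or.inr (Or.inr (Or.inr ⟨h1, a, b, h2, h3, h5, h6⟩))
  have hZ : ExcType p e t k d z := by
    rcases hz with ⟨h1, m, hm, hzm⟩ | ⟨h1, w, hw, hzw⟩
    · rcases excp_case hp ht hk (by omega) hzm hzd with h | ⟨a, b, h2, h3, h4, h5⟩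
      · exact Or.inl ⟨h1, h⟩
      · exact Or.inr (Or.inl ⟨h1, a, b, m, h2, h3, hm, h4, h5⟩)
    · rcases excn_case hp ht hk1 hk (by omega) hzw hzd with h | ⟨a, b, h2, h3, h4⟩
      · exact Or.inr (Or.inr (Or.inl ⟨h1, h⟩))
      · exact Or.inr (Or.inr (Or.inr ⟨h1, a, b, w, h2, h3, hw, h4⟩))
  -- Step 1
  obtain ⟨a, b, hab⟩ : ∃ a b, AB p k a b := by
    by_contra hno
    push Not at hno
    have h1 : (1 + k * p) ∣ t := by
      refine dvd_t hi₁ hf₁ hε₁ hrel _ _ (fun i hi hne => ?_) ?_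
      · rcases hT i hi hne with ⟨-, h⟩ | ⟨-, a, b, h, -⟩ | ⟨-, -, h⟩ | ⟨-, a, b, h, -⟩
        · rw [h]; exact Dvd.intro_left _ rfl
        · exact absurd h (hno a b)
        · rw [h]; exact ⟨t * (p - 1), by ring⟩
        · exact absurd h (hno a b)
      · rcases hZ with ⟨-, h⟩ | ⟨-, a, b, m, h, -⟩ | ⟨-, h⟩ | ⟨-, a, b, w, h, -⟩
        · rw [h]; exact ⟨t * e, by ring⟩
        · exact absurd h (hno a b)
        · rw [h]
        · exact absurd h (hno a b)
    have := Nat.le_of_dvd ht0 h1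
    omega
  have hmul := hab.mul
  have hle := hab.le
  have heq := hab.eq
  have hn := hab.n_eq hp
  have ha0 : 0 < a := by
    rcases Nat.eq_zero_or_pos a with h | h
    · rw [h, zero_mul] at hmul; omega
    · exact h
  have hb0 : 0 < b := by omega
  have hbp : b ≤ p - 1 := by rw [← hmul]; exact Nat.le_mul_of_pos_left _ ha0
  -- `a (p - b) = (a - 1) p + 1`
  have hapb : a * (p - b) + p = a * p + 1 := by
    have h1 : a * (p - b) + a * b = a * p := by rw [← mul_add, Nat.sub_add_cancel (by omega)]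
    omega
  -- Step 2
  have hbe : b ∣ e := by
    by_contra hb
    have ht1 : t ≠ 1 := by
      rintro rfl
      apply hb
      rw [mul_one] at ht
      rw [ht, ← hmul]
      exact Dvd.intro_left _ rfl
    have hT' : ∀ i ∈ NE, i ≠ i₁ → ε i = 1 ∧ (f i = 1 + k * p ∨ f i = a * (p - b)) := by
      intro i hi hne
      rcases hT i hi hne with ⟨h1, h⟩ | ⟨h1, a', b', h, -, -, h2⟩ | ⟨-, h, -⟩ | ⟨-, a', b', h, h2, -⟩
      · exact ⟨h1, Or.inl h⟩
      · obtain ⟨rfl, rfl⟩ := h.unique hab hp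
        exact ⟨h1, Or.inr h2⟩
      · exact absurd h ht1
      · obtain ⟨rfl, rfl⟩ := h.unique hab hp
        exact absurd h2 hb
    have hsum : ((1 + ∑ i ∈ NE.erase i₁, f i : ℕ) : ℤ) = d * z := by
      rw [← hrel, ← Finset.add_sum_erase _ _ hi₁, hf₁, hε₁]
      push_cast
      congr 1
      refine Finset.sum_congr rfl fun i hi => ?_
      rw [(hT' i (Finset.mem_of_mem_erase hi) (Finset.ne_of_mem_erase hi)).1, one_mul]
    have hcard' : (NE.erase i₁).card = e - 1 := by rw [Finset.card_erase_of_mem hi₁, hcard]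
    have hd1 : d = 1 := by
      rcases hz with ⟨h, -⟩ | ⟨h, -⟩
      · exact h
      · rw [h] at hsum
        have : (0 : ℤ) < ((1 + ∑ i ∈ NE.erase i₁, f i : ℕ) : ℤ) := by
          have : 0 < 1 + ∑ i ∈ NE.erase i₁, f i := by omega
          exact_mod_cast this
        rw [hsum] at this
        have h2 : (0 : ℤ) ≤ z := Int.natCast_nonneg z
        linarith
    rw [hd1, one_mul] at hsum
    have hsum' : 1 + ∑ i ∈ NE.erase i₁, f i = z := by exact_mod_cast hsum
    rcases hZ with ⟨-, h⟩ | ⟨-, a', b', m, h, h1, h2, h3, h4⟩ | ⟨h, -⟩ | ⟨h, -⟩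
    · have h1 : ∑ i ∈ NE.erase i₁, f i ≤ (NE.erase i₁).card • (1 + k * p) := by
        refine Finset.sum_le_card_nsmul _ _ _ fun i hi => ?_
        rcases (hT' i (Finset.mem_of_mem_erase hi) (Finset.ne_of_mem_erase hi)).2 with h2 | h2
        · exact h2.le
        · rw [h2, hn, mul_comm]
          exact Nat.mul_le_mul_left _ (by omega)
      rw [hcard', smul_eq_mul] at h1
      have h2 : (1 + k * p) * e = (e - 1) * (1 + k * p) + (1 + k * p) := by
        obtain ⟨x, rfl⟩ : ∃ x, e = x + 1 := ⟨e - 1, by omega⟩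
        rw [Nat.add_sub_cancel]; ring
      rw [h, h2] at hsum'
      omega
    · obtain ⟨rfl, rfl⟩ := h.unique hab hp
      have h5 : (NE.erase i₁).card • (a' * (p - b')) ≤ ∑ i ∈ NE.erase i₁, f i := by
        refine Finset.card_nsmul_le_sum _ _ _ fun i hi => ?_
        rcases (hT' i (Finset.mem_of_mem_erase hi) (Finset.ne_of_mem_erase hi)).2 with h2 | h2
        · rw [h2, hn, mul_comm]
          exact Nat.mul_le_mul_left _ (by omega)
        · exact h2.ge
      rw [hcard', smul_eq_mul] at h5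
      have h6 : 1 + (e - 1) * (a' * (p - b')) ≤ m * (p + a') := by omega
      have h7 : p + 1 ≤ a' * (p - b') := by
        have : 2 * p ≤ a' * p := Nat.mul_le_mul_right _ h3
        omega
      have h8 : (e - 1) * (p + 1) ≤ (e - 1) * (a' * (p - b')) := Nat.mul_le_mul_left _ h7
      have h9 : e * (p + 1) = (e - 1) * (p + 1) + (p + 1) := by
        obtain ⟨x, rfl⟩ : ∃ x, e = x + 1 := ⟨e - 1, by omega⟩
        rw [Nat.add_sub_cancel]; ring
      have h10 : e * (p + 1) = a' * m * p + a' * m := by rw [h1]; ring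
      have h11 : m * (p + a') = m * p + a' * m := by ring
      have h12 : 2 * (m * p) ≤ a' * m * p := by
        calc 2 * (m * p) ≤ a' * (m * p) := Nat.mul_le_mul_right _ h3
          _ = a' * m * p := by ring
      have h13 : 2 * p ≤ m * p := Nat.mul_le_mul_right _ h2
      omega
    · omega
    · omega
  -- Step 3
  have ha3 : 3 ≤ a := by
    by_contra ha
    have h1 : (p + a) ∣ t := by
      refine dvd_t hi₁ hf₁ hε₁ hrel _ _ (fun i hi hne => ?_) ?_
      · rcases hT i hi hne with ⟨-, h⟩ | ⟨-, a', b', h, -, h3, -⟩ | ⟨-, -, h⟩ |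
          ⟨-, a', b', h, -, -, h3⟩
        · rw [h, hn]; exact ⟨t * (p - b), by ring⟩
        · obtain ⟨rfl, rfl⟩ := h.unique hab hp
          exact absurd h3 ha
        · rw [h, hn]; exact ⟨t * (p - 1) * (p - b), by ring⟩
        · obtain ⟨rfl, rfl⟩ := h.unique hab hp
          rw [h3]; exact ⟨t * b', by ring⟩
      · rcases hZ with ⟨-, h⟩ | ⟨-, a', b', m, h, -, -, -, h3⟩ | ⟨-, h⟩ |
          ⟨-, a', b', w, h, h1, h2, -⟩
        · rw [h, hn]; exact ⟨t * (p - b) * e, by ring⟩
        · obtain ⟨rfl, rfl⟩ := h.unique hab hp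
          rw [h3]; exact ⟨t * m, by ring⟩
        · rw [h, hn]; exact ⟨p - b, by ring⟩
        · exfalso
          obtain ⟨rfl, rfl⟩ := h.unique hab hp
          have h4 : b' * (w * t) = b' * a' := by
            calc b' * (w * t) = e * t := by rw [h1]; ring
              _ = b' * a' := by rw [ht, ← hmul]; ring
          have h5 := Nat.eq_of_mul_eq_mul_left hb0 h4
          have h6 : 3 * 1 ≤ w * t := Nat.mul_le_mul h2 ht0
          omega
    have := Nat.le_of_dvd ht0 h1
    omega
  refine ⟨?_, a, b, hab, ha3, hbe⟩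
  -- Step 4
  by_contra hp17
  push Not at hp17
  have hab15 : a * b ≤ 15 := by omega
  have hb5 : b ≤ 5 := by
    by_contra hcon
    have : 3 * 6 ≤ a * b := Nat.mul_le_mul ha3 (by omega)
    omega
  have ha4 : a < 4 := by
    by_contra hcon
    have : 4 * 4 ≤ a * b := Nat.mul_le_mul (by omega) (by omega)
    omega
  have ha' : a = 3 := by omega
  subst ha'
  have hb' : b = 4 := by
    interval_cases b
    · exfalso
      have : p = 10 := by omega
      rw [this] at hpp
      revert hpp; norm_num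
    · rfl
    · exfalso
      have : p = 16 := by omega
      rw [this] at hpp
      revert hpp; norm_num
  subst hb'
  have hp13 : p = 13 := by omega
  subst hp13
  have hk11 : k = 11 := by omega
  subst hk11
  let Y := (NE.erase i₁).filter fun i => f i = 27
  have hY : Y.card ≤ 11 := by
    have h1 : Y.card ≤ (NE.erase i₁).card := Finset.card_le_card (Finset.filter_subset _ _)
    rw [Finset.card_erase_of_mem hi₁, hcard] at h1
    have h2 : e ≤ 12 := by
      have : e * 1 ≤ e * t := Nat.mul_le_mul_left _ ht0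
      omega
    omega
  have hsumY : (16 : ℤ) ∣ ∑ i ∈ NE.erase i₁, ε i * f i - 27 * Y.card := by
    have h1 : (27 : ℤ) * Y.card = ∑ i ∈ NE.erase i₁, if f i = 27 then (27 : ℤ) else 0 := by
      rw [← Finset.sum_filter, Finset.sum_const]
      simp [Y, mul_comm]
    rw [h1, ← Finset.sum_sub_distrib]
    refine Finset.dvd_sum fun i hi => ?_
    rcases hT i (Finset.mem_of_mem_erase hi) (Finset.ne_of_mem_erase hi) with ⟨h2, h⟩ |
      ⟨h2, a', b', h, -, -, h3⟩ | ⟨h2, -, h⟩ | ⟨h2, a', b', h, -, -, h3⟩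
    · rw [h2, h]; norm_num
    · obtain ⟨rfl, rfl⟩ := h.unique hab hp
      rw [h2, h3]; norm_num
    · rw [h2, h]; norm_num
    · obtain ⟨rfl, rfl⟩ := h.unique hab hp
      rw [h2, h3]; norm_num
  have hzz : (16 : ℤ) ∣ d * z ∨ (16 : ℤ) ∣ d * z + 27 := by
    rcases hZ with ⟨h1, h⟩ | ⟨h1, a', b', m, h, h3, -, -, h4⟩ | ⟨h1, h⟩ |
      ⟨h1, a', b', w, h, h3, h2, h4⟩
    · left; rw [h1, h]; push_cast; omega
    · left
      obtain ⟨rfl, rfl⟩ := h.unique hab hp
      rw [h1, h4]; push_cast; omega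
    · left
      have h5 : e ∣ 12 := Dvd.intro _ ht
      have h6 : e ≤ 12 := Nat.le_of_dvd (by norm_num) h5
      obtain ⟨c, rfl⟩ := hbe
      have h7 : c * t = 3 := by
        have : 4 * (c * t) = 12 := by rw [← mul_assoc]; omega
        omega
      have h8 : t = 1 ∨ t = 3 := (Nat.dvd_prime (by norm_num)).1 (Dvd.intro_left _ h7)
      rw [h1]
      rcases h8 with rfl | rfl
      · have : z = 144 := by omega
        rw [this]; norm_num
      · have : z = 48 := by omega
        rw [this]; norm_num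
    · right
      obtain ⟨rfl, rfl⟩ := h.unique hab hp
      have h5 : e ∣ 12 := Dvd.intro _ ht
      have h6 : e ≤ 12 := Nat.le_of_dvd (by norm_num) h5
      have h7 : w = 3 := by omega
      rw [h1, h4, h7]; norm_num
  rw [← hrel, ← Finset.add_sum_erase _ _ hi₁, hf₁, hε₁] at hzz
  obtain ⟨y, hy⟩ : ∃ y : ℕ, Y.card = y := ⟨_, rfl⟩
  rw [hy] at hY hsumY
  push_cast at hzz
  omega

end Cfsg.Agent.H570.Arith
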