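import Cfsg.Agent.H570.PartB

/-!
The bound `|K| ≤ (k e)²` for the `p`-complement `K` of `C(P)`.
-/

set_option autoImplicit false

namespace Cfsg.Agent.H570.Cent

open Subgroup Cfsg.Agent.H570.PNil Cfsg.Agent.H570.Gen Cfsg.Agent.H570.PartB
  Cfsg.Agent.SmallSimple

universe u

variable {G : Type u} [Group G] [Finite G] {p : ℕ} [hp : Fact p.Prime]

omit [Finite G] hp in
theorem map_centralizer (P : Subgroup G) (g : G) :
    (centralizer (P : Set G)).map (MulAut.conj g).toMonoidHom =
      centralizer ((P.map (MulAut.conj g).toMonoidHom : Subgroup G) : Set G) := by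
  ext x
  constructor
  · rintro ⟨y, hy, rfl⟩
    refine mem_centralizer_iff.2 ?_
    rintro _ ⟨z, hz, rfl⟩
    have := mem_centralizer_iff.1 hy z hz
    change g * z * g⁻¹ * (g * y * g⁻¹) = g * y * g⁻¹ * (g * z * g⁻¹)
    calc g * z * g⁻¹ * (g * y * g⁻¹) = g * (z * y) * g⁻¹ := by group
      _ = g * (y * z) * g⁻¹ := by rw [this]
      _ = _ := by group
  · intro hx
    refine ⟨g⁻¹ * x * g, mem_centralizer_iff.2 ?_, ?_⟩
    · intro z hz
      have := mem_centralizer_iff.1 hx (g * z * g⁻¹) ⟨z, hz, rfl⟩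
      calc z * (g⁻¹ * x * g) = g⁻¹ * ((g * z * g⁻¹) * x) * g := by group
        _ = g⁻¹ * (x * (g * z * g⁻¹)) * g := by rw [this]
        _ = _ := by group
    · change g * (g⁻¹ * x * g) * g⁻¹ = x
      group

omit [Finite G] hp in
theorem map_normalizer (P : Subgroup G) (g : G) :
    (normalizer (P : Set G)).map (MulAut.conj g).toMonoidHom =
      normalizer ((P.map (MulAut.conj g).toMonoidHom : Subgroup G) : Set G) := by
  have hmem : ∀ z : G, z ∈ P.map (MulAut.conj g).toMonoidHom ↔ g⁻¹ * z * g ∈ P := by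
    intro z
    constructor
    · rintro ⟨w, hw, rfl⟩
      change g⁻¹ * (g * w * g⁻¹) * g ∈ P
      have : g⁻¹ * (g * w * g⁻¹) * g = w := by group
      rw [this]; exact hw
    · intro h
      refine ⟨_, h, ?_⟩
      change g * (g⁻¹ * z * g) * g⁻¹ = z
      group
  ext x
  constructor
  · rintro ⟨y, hy, rfl⟩
    refine mem_normalizer_iff.2 fun z => ?_
    rw [hmem, hmem, mem_normalizer_iff.1 hy]
    have : g⁻¹ * ((MulAut.conj g).toMonoidHom y * z * ((MulAut.conj g).toMonoidHom y)⁻¹) * g =
        y * (g⁻¹ * z * g) * y⁻¹ := by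
      change g⁻¹ * ((g * y * g⁻¹) * z * (g * y * g⁻¹)⁻¹) * g = _
      group
    rw [this]
  · intro hx
    refine ⟨g⁻¹ * x * g, mem_normalizer_iff.2 fun z => ?_, ?_⟩
    · have h1 := mem_normalizer_iff.1 hx (g * z * g⁻¹)
      rw [hmem, hmem] at h1
      have e1 : g⁻¹ * (g * z * g⁻¹) * g = z := by group
      have e2 : g⁻¹ * (x * (g * z * g⁻¹) * x⁻¹) * g = g⁻¹ * x * g * z * (g⁻¹ * x * g)⁻¹ := by group
      rw [e1, e2] at h1
      exact h1
    · change g * (g⁻¹ * x * g) * g⁻¹ = x
      group

/-- `|N(Q) : C(Q)|` does not depend on the Sylow subgroup. -/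
theorem relIndex_eq (P Q : Sylow p G) :
    (centralizer (Q : Set G)).relIndex (normalizer (Q : Set G)) =
      (centralizer (P : Set G)).relIndex (normalizer (P : Set G)) := by
  obtain ⟨g, hg⟩ := MulAction.exists_smul_eq G P Q
  have h1 : (Q : Subgroup G) = (P : Subgroup G).map (MulAut.conj g).toMonoidHom := by
    rw [← hg]; rfl
  change (centralizer ((Q : Subgroup G) : Set G)).relIndex (normalizer ((Q : Subgroup G) : Set G)) =
      (centralizer ((P : Subgroup G) : Set G)).relIndex (normalizer ((P : Subgroup G) : Set G))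
  rw [h1, ← map_centralizer, ← map_normalizer]
  exact Subgroup.relIndex_map_map_of_injective _ _ (MulAut.conj g).injective

omit [Finite G] in
/-- An element `u c` (`u ∈ P`, `c ∈ C(P)` of order prime to `p`) normalizing a Sylow subgroup
`Q ≠ P` has `u = 1`. -/
theorem eq_one_of_mem_normalizer {P Q : Sylow p G} (hP : Nat.card P = p) (hPQ : P ≠ Q)
    {u c : G} (hu : u ∈ P) (hc : c ∈ centralizer (P : Set G)) {m : ℕ} (hm : ¬ p ∣ m)
    (hcm : c ^ m = 1) (h : u * c ∈ normalizer (Q : Set G)) : u = 1 := by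
  by_contra hu1
  have hcomm : Commute u c := mem_centralizer_iff.1 hc u hu
  have h1 : u ^ m ∈ normalizer (Q : Set G) := by
    have h2 := pow_mem h m
    rwa [hcomm.mul_pow, hcm, mul_one] at h2
  have hP' : Nat.card (P : Subgroup G) = p := hP
  have hum : u ^ m ≠ 1 := by
    intro h2
    have h3 : orderOf u = p := by
      have h4 : orderOf u ∣ p := by
        rw [← hP', ← Subgroup.orderOf_mk u hu]
        exact orderOf_dvd_natCard _
      rcases (Nat.dvd_prime hp.out).1 h4 with h5 | h5
      · exact absurd (orderOf_eq_one_iff.1 h5) hu1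
      · exact h5
    exact hm (h3 ▸ orderOf_dvd_of_pow_eq_one h2)
  have h2 : (P : Subgroup G) ≤ normalizer (Q : Set G) := by
    intro y hy
    have h3 := SylowPrime.mem_zpowers_of_card_prime hp.out hP' (pow_mem hu m) hum hy
    obtain ⟨j, rfl⟩ := Subgroup.mem_zpowers_iff.1 h3
    exact zpow_mem h1 j
  have h3 : (P : Subgroup G) ≤ Q := by
    have h4 := IsPGroup.inf_normalizer_sylow P.isPGroup' Q
    have h5 : (P : Subgroup G) ⊓ normalizer (Q : Set G) = P := inf_eq_left.2 h2
    rw [h5] at h4
    exact inf_eq_left.1 h4.symm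
  exact hPQ (Sylow.ext (P.3 Q.2 h3).symm)

/-- `|C : N_C(Q)| ≤ k`. -/
theorem relIndex_normalizer_le {P Q : Sylow p G} (hP : Nat.card P = p) (hPQ : P ≠ Q)
    {C : Subgroup G} (hC : C ≤ centralizer (P : Set G)) (hCp : ¬ p ∣ Nat.card C) {k : ℕ}
    (hn : Nat.card (Sylow p G) = 1 + k * p) : (normalizer (Q : Set G)).relIndex C ≤ k := by
  classical
  let X := C ⧸ (normalizer (Q : Set G)).subgroupOf C
  have hpow : ∀ c ∈ C, c ^ Nat.card C = 1 := fun c hc => by
    have h1 : (⟨c, hc⟩ : C) ^ Nat.card C = 1 := pow_card_eq_one'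
    exact congrArg Subtype.val h1
  let f : X × P → {R : Sylow p G // R ≠ P} := fun z =>
    ⟨((z.2 : G) * (z.1.out : G)) • Q, by
      intro h
      apply hPQ
      have h1 : (z.2 : G) * (z.1.out : G) ∈ normalizer (P : Set G) :=
        mul_mem (Subgroup.le_normalizer z.2.2)
          (Subgroup.centralizer_le_normalizer _ (hC z.1.out.2))
      have h2 : ((z.2 : G) * (z.1.out : G)) • P = P := Sylow.smul_eq_iff_mem_normalizer.2 h1
      have h3 : ((z.2 : G) * (z.1.out : G)) • Q = ((z.2 : G) * (z.1.out : G)) • P := by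
        rw [h, h2]
      exact (smul_left_cancel _ h3).symm⟩
  have hf : Function.Injective f := by
    rintro ⟨x, u⟩ ⟨x', u'⟩ h
    have h1 : ((u : G) * (x.out : G)) • Q = ((u' : G) * (x'.out : G)) • Q :=
      congrArg (fun z => z.1) h
    set c : G := (x.out : G) with hc
    set c' : G := (x'.out : G) with hc'
    have hcC : c ∈ C := x.out.2
    have hcC' : c' ∈ C := x'.out.2
    have h2 : ((u' : G) * c')⁻¹ * ((u : G) * c) ∈ normalizer (Q : Set G) := by
      rw [← Sylow.smul_eq_iff_mem_normalizer, mul_smul, h1, ← mul_smul, inv_mul_cancel, one_smul]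
    have h3 : ((u' : G) * c')⁻¹ * ((u : G) * c) = ((u' : G)⁻¹ * u) * (c'⁻¹ * c) := by
      have h4 : c'⁻¹ * ((u' : G)⁻¹ * u) = ((u' : G)⁻¹ * u) * c'⁻¹ := by
        have h5 := mem_centralizer_iff.1 (inv_mem (hC hcC')) ((u' : G)⁻¹ * u)
          (mul_mem (inv_mem u'.2) u.2)
        exact h5.symm
      calc ((u' : G) * c')⁻¹ * ((u : G) * c) = (c'⁻¹ * ((u' : G)⁻¹ * u)) * c := by group
        _ = (((u' : G)⁻¹ * u) * c'⁻¹) * c := by rw [h4]
        _ = _ := by group
    rw [h3] at h2
    have hcc : c'⁻¹ * c ∈ C := mul_mem (inv_mem hcC') hcC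
    have h4 : (u' : G)⁻¹ * u = 1 := eq_one_of_mem_normalizer hP hPQ
      (mul_mem (inv_mem u'.2) u.2) (hC hcc) hCp (hpow _ hcc) h2
    rw [h4, one_mul] at h2
    have h5 : u = u' := Subtype.ext (by
      have := inv_mul_eq_one.1 h4
      exact this.symm)
    have h6 : x = x' := by
      rw [← Quotient.out_eq x, ← Quotient.out_eq x']
      symm
      refine QuotientGroup.eq.2 ?_
      rw [Subgroup.mem_subgroupOf]
      exact h2
    rw [h5, h6]
  have h1 := Nat.card_le_card_of_injective f hf
  rw [Nat.card_prod] at h1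
  have h2 : Nat.card {R : Sylow p G // R ≠ P} = k * p := by
    have := Fintype.ofFinite (Sylow p G)
    rw [Nat.card_eq_fintype_card, Fintype.card_subtype_compl, Fintype.card_subtype_eq,
      ← Nat.card_eq_fintype_card, hn]
    omega
  rw [h2] at h1
  have h3 : Nat.card P = p := hP
  rw [h3] at h1
  exact Nat.le_of_mul_le_mul_right h1 hp.out.pos

theorem relIndex_le {P : Sylow p G} (hP : Nat.card P = p) {e k : ℕ} {K : Subgroup G}
    (hloc : PrimeLocal.IsLocal p P e K) (hk : 1 ≤ k)
    {C : Subgroup G} (hC : C ≤ centralizer (P : Set G)) (hCp : ¬ p ∣ Nat.card C)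
    (hn : Nat.card (Sylow p G) = 1 + k * p) (Q : Sylow p G) :
    (centralizer (Q : Set G)).relIndex C ≤ k * e := by
  have he := hloc.one_lt
  by_cases hPQ : P = Q
  · subst hPQ
    rw [Subgroup.relIndex_eq_one.2 hC]
    exact Nat.mul_pos hk (by omega)
  · have h1 := relIndex_normalizer_le hP hPQ hC hCp hn
    have h2 : (centralizer (Q : Set G)).relIndex (normalizer (Q : Set G) ⊓ C) ≤ e := by
      have h3 : (centralizer (Q : Set G)).relIndex (normalizer (Q : Set G)) = e := by
        rw [relIndex_eq P Q]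
        exact LargePrime.relIndex_eq hloc hp.out.pos
      rw [← h3]
      exact Subgroup.relIndex_le_of_le_right inf_le_left (relIndex_ne_zero _ _)
    have h4 : (centralizer (Q : Set G)).relIndex C =
        (centralizer (Q : Set G)).relIndex (normalizer (Q : Set G) ⊓ C) *
          (normalizer (Q : Set G)).relIndex C := by
      have h5 : centralizer (Q : Set G) ⊓ C ≤ normalizer (Q : Set G) ⊓ C :=
        inf_le_inf_right _ (Subgroup.centralizer_le_normalizer _)
      have h6 := Subgroup.relIndex_mul_relIndex _ _ _ h5 inf_le_right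
      rw [Subgroup.inf_relIndex_right, Subgroup.inf_relIndex_right] at h6
      rw [← h6]
      congr 1
      rw [← Subgroup.inf_relIndex_right (centralizer (Q : Set G)) (normalizer (Q : Set G) ⊓ C)]
      congr 1
      apply le_antisymm
      · exact le_inf inf_le_left h5
      · exact le_inf inf_le_left (inf_le_right.trans inf_le_right)
    rw [h4, mul_comm k e]
    exact Nat.mul_le_mul h2 h1

theorem card_K_le [IsSimpleGroup G] (hG : ¬ IsMulCommutative G) {P : Sylow p G}
    (hP : Nat.card P = p) {e k : ℕ} {K : Subgroup G}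
    (hloc : PrimeLocal.IsLocal p P e K) (hk : 1 ≤ k)
    (hn : Nat.card (Sylow p G) = 1 + k * p) (Q R : Sylow p G)
    (hgen : (P : Subgroup G) ⊔ Q ⊔ R = ⊤) : Nat.card K ≤ (k * e) ^ 2 := by
  let C₁ : Subgroup G := centralizer (Q : Set G) ⊓ K
  let C₂ : Subgroup G := centralizer (R : Set G) ⊓ C₁
  have hK := hloc.le_centralizer
  have hC₁K : C₁ ≤ K := inf_le_right
  have hC₁p : ¬ p ∣ Nat.card C₁ := fun h => hloc.not_dvd (h.trans (Subgroup.card_dvd_of_le hC₁K))
  have h1 := relIndex_le hP hloc hk hK hloc.not_dvd hn Q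
  have h2 := relIndex_le hP hloc hk (hC₁K.trans hK) hC₁p hn R
  have h3 : Nat.card C₁ * (centralizer (Q : Set G)).relIndex K = Nat.card K := by
    have h3 := card_mul_relIndex (G := G) (inf_le_right : C₁ ≤ K)
    rwa [Subgroup.inf_relIndex_right] at h3
  have h4 : Nat.card C₂ * (centralizer (R : Set G)).relIndex C₁ = Nat.card C₁ := by
    have h4 := card_mul_relIndex (G := G) (inf_le_right : C₂ ≤ C₁)
    rwa [Subgroup.inf_relIndex_right] at h4
  have h5 : C₂ = ⊥ := by
    rw [eq_bot_iff]
    intro x hx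
    have hxR : x ∈ centralizer (R : Set G) := hx.1
    have hxQ : x ∈ centralizer (Q : Set G) := hx.2.1
    have hxP : x ∈ centralizer (P : Set G) := hK hx.2.2
    have h6 : (P : Subgroup G) ⊔ Q ⊔ R ≤ centralizer ({x} : Set G) := by
      have key : ∀ S : Sylow p G, x ∈ centralizer (S : Set G) →
          (S : Subgroup G) ≤ centralizer ({x} : Set G) := by
        intro S hS y hy
        rw [mem_centralizer_singleton_iff]
        exact mem_centralizer_iff.1 hS y hy
      exact sup_le (sup_le (key P hxP) (key Q hxQ)) (key R hxR)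
    rw [hgen, top_le_iff] at h6
    have h7 : x ∈ Subgroup.center G := by
      rw [Subgroup.mem_center_iff]
      intro g
      have : g ∈ centralizer ({x} : Set G) := h6 ▸ Subgroup.mem_top g
      exact mem_centralizer_singleton_iff.1 this
    have h8 : (Subgroup.center G).Normal := inferInstance
    rcases h8.eq_bot_or_eq_top with h9 | h9
    · rwa [h9] at h7
    · exfalso
      apply hG
      refine ⟨⟨fun a b => ?_⟩⟩
      have : a ∈ Subgroup.center G := h9 ▸ Subgroup.mem_top a
      exact (Subgroup.mem_center_iff.1 this b).symm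
  rw [h5, Subgroup.card_bot, one_mul] at h4
  rw [← h3, ← h4, sq]
  exact Nat.mul_le_mul h2 h1

end Cfsg.Agent.H570.Cent
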