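import Cfsg.Agent.H570.Data

/-!
Elimination of numerical data: small linear dimension versus the order.
-/

set_option autoImplicit false

namespace Cfsg.Agent.H570.Chk

open Cfsg.Agent.H570.Data Cfsg.Agent.H570.Arith

/-- small prime divisors -/
def comp (p : ℕ) : Bool :=
  Nat.beq (p % 2) 0 || Nat.beq (p % 3) 0 || Nat.beq (p % 5) 0 || Nat.beq (p % 7) 0 ||
    Nat.beq (p % 11) 0 || Nat.beq (p % 13) 0

theorem not_comp {p : ℕ} (hp : p.Prime) (h : 17 ≤ p) : comp p = false := by
  have key : ∀ r, r.Prime → r < 17 → Nat.beq (p % r) 0 = false := by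
    intro r hr hr17
    rw [← Bool.not_eq_true, Nat.beq_eq]
    intro h0
    have := (Nat.prime_dvd_prime_iff_eq hr hp).1 (Nat.dvd_of_mod_eq_zero h0)
    omega
  unfold comp
  rw [key 2 (by norm_num) (by norm_num), key 3 (by norm_num) (by norm_num),
    key 5 (by norm_num) (by norm_num), key 7 (by norm_num) (by norm_num),
    key 11 (by norm_num) (by norm_num), key 13 (by norm_num) (by norm_num)]
  rfl

/-- one triple `(a, b, c)`: no data with `p = a b + 1` and `e = b c` -/
def chk1 (o a b c : ℕ) : Bool :=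
  Nat.blt a 3 || Nat.blt (a * b + 1) 17 || comp (a * b + 1) || !(Nat.beq (a * b % (b * c)) 0) ||
    !(Nat.beq (o % ((a * b + 1 - b) * (a * b + 1 + a) * ((a * b + 1) * (b * c)))) 0) ||
    Nat.blt ((a * b + 1 - b) * (a * b + 1 + a) * ((a * b + 1) * (b * c)) *
      ((a * b + a - b) * (b * c)) ^ 2) o

/-- all triples with `a ≤ b`, `b c ≤ N` -/
def chk (N o : ℕ) : Bool :=
  (List.range (N + 1)).all fun b => (List.range (b + 1)).all fun a =>
    (List.range (N / b + 1)).all fun c => chk1 o a b c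

theorem of_chk {N o a b c : ℕ} (h : chk N o = true) (hab : a ≤ b) (hb : 0 < b) (hc : 0 < c)
    (hbc : b * c ≤ N) : chk1 o a b c = true := by
  unfold chk at h
  rw [List.all_eq_true] at h
  have hbN : b ≤ N := le_trans (Nat.le_mul_of_pos_right b hc) hbc
  have h1 := h b (List.mem_range.2 (by omega))
  rw [List.all_eq_true] at h1
  have h2 := h1 a (List.mem_range.2 (by omega))
  rw [List.all_eq_true] at h2
  refine h2 c (List.mem_range.2 ?_)
  have : c ≤ N / b := (Nat.le_div_iff_mul_le hb).2 (by rw [mul_comm]; exact hbc)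
  omega

/-- the consequences of the numerical data -/
theorem cases_of {p e o : ℕ} (hp : p.Prime) (h : Num p e o) :
    (∃ n, o = n * (p * e) ∧ p + 1 ≤ n ∧ n < p ^ 2 ∧ n ≡ 1 [MOD p] ∧ 2 ≤ e ∧ e ∣ p - 1) ∨
    (17 ≤ p ∧ ∃ a b c, p = a * b + 1 ∧ e = b * c ∧ 3 ≤ a ∧ a ≤ b ∧ 0 < c ∧ o < p ^ 5 * e ^ 3 ∧
      chk1 o a b c = false) := by
  obtain ⟨n, κ, he2, hed, ho, hn1, hn2, hmod, hκ, h1 | ⟨hp17, a, b, k, hnk, hAB, ha3, hbe, hκ2⟩⟩ := h
  · left
    exact ⟨n, by rw [ho, h1, mul_one], hn1, hn2, hmod, he2, hed⟩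
  · right
    have hab := hAB.le
    have hmul := hAB.mul
    have heq := hAB.eq
    have hpab : p = a * b + 1 := by omega
    obtain ⟨c, rfl⟩ := hbe
    have hc : 0 < c := by
      rcases Nat.eq_zero_or_pos c with hc | hc
      · rw [hc] at he2; omega
      · exact hc
    have hneq : n = (p - b) * (p + a) := by rw [hnk]; exact hAB.n_eq hp.two_le
    have hbp : b ≤ a * b := Nat.le_mul_of_pos_left b (by omega)
    have hk : k = a * b + a - b := by omega
    have hkp : k ≤ p := by omega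
    refine ⟨hp17, a, b, c, hpab, rfl, ha3, hab, hc, ?_, ?_⟩
    · rw [ho]
      have hp0 := hp.pos
      have hpos : 0 < p * (b * c * κ) := by positivity
      calc n * (p * (b * c * κ)) < p ^ 2 * (p * (b * c * κ)) := Nat.mul_lt_mul_of_pos_right hn2 hpos
        _ ≤ p ^ 2 * (p * (b * c * (k * (b * c)) ^ 2)) := by gcongr
        _ ≤ p ^ 2 * (p * (b * c * (p * (b * c)) ^ 2)) := by gcongr
        _ = p ^ 5 * (b * c) ^ 3 := by ring
    · have hdvd : o % ((a * b + 1 - b) * (a * b + 1 + a) * ((a * b + 1) * (b * c))) = 0 := by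
        apply Nat.mod_eq_zero_of_dvd
        rw [← hpab, ← hneq, ho]
        exact Dvd.intro κ (by ring)
      have hle : o ≤ (a * b + 1 - b) * (a * b + 1 + a) * ((a * b + 1) * (b * c)) *
          ((a * b + a - b) * (b * c)) ^ 2 := by
        rw [← hpab, ← hneq, ho, ← hk]
        calc n * (p * (b * c * κ)) ≤ n * (p * (b * c * (k * (b * c)) ^ 2)) := by gcongr
          _ = _ := by ring
      rw [← Bool.not_eq_true]
      intro h
      unfold chk1 at h
      rw [← hpab, not_comp hp hp17, hpab] at h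
      rw [Bool.or_eq_true, Bool.or_eq_true, Bool.or_eq_true, Bool.or_eq_true, Bool.or_eq_true,
        Nat.blt_eq, Nat.blt_eq, Nat.blt_eq, Bool.not_eq_true', ← Bool.not_eq_true, Nat.beq_eq,
        Bool.not_eq_true', ← Bool.not_eq_true, Nat.beq_eq] at h
      rcases h with ((((h | h) | h) | h) | h) | h
      · omega
      · omega
      · exact Bool.noConfusion h
      · apply h
        apply Nat.mod_eq_zero_of_dvd
        rw [show a * b = p - 1 by omega]
        exact hed
      · exact h hdvd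
      · omega

/-- **Elimination.** -/
theorem no_num {p e o N X : ℕ} (hp : p.Prime) (h : Num p e o) (he : e ≤ N) (hpX : p ≤ X)
    (h1 : N * X ^ 3 ≤ o) (h2 : (N ^ 2 + 1) ^ 5 * N ^ 3 ≤ o ∨ chk N o = true) : False := by
  rcases cases_of hp h with ⟨n, ho, hn1, hn2, -, he2, -⟩ | ⟨hp17, a, b, c, hpab, rfl, ha3, hab, hc, hlt, hck⟩
  · have hp0 := hp.pos
    have : o < p ^ 2 * (p * e) := by
      rw [ho]
      exact Nat.mul_lt_mul_of_pos_right hn2 (by positivity)
    have h3 : p ^ 2 * (p * e) ≤ N * X ^ 3 := by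
      calc p ^ 2 * (p * e) = e * p ^ 3 := by ring
        _ ≤ N * X ^ 3 := by gcongr
    omega
  · rcases h2 with h2 | h2
    · have hbN : b ≤ N := le_trans (Nat.le_mul_of_pos_right b hc) he
      have hpN : p ≤ N ^ 2 + 1 := by
        rw [hpab, sq]
        have : a * b ≤ N * N := Nat.mul_le_mul (hab.trans hbN) hbN
        omega
      have h3 : p ^ 5 * (b * c) ^ 3 ≤ (N ^ 2 + 1) ^ 5 * N ^ 3 := by gcongr
      omega
    · rw [of_chk h2 hab (by omega) hc he] at hck
      exact Bool.noConfusion hck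

/-- for dimension at most `3` only the first inequality matters -/
theorem no_num3 {p e o X : ℕ} (hp : p.Prime) (h : Num p e o) (he : e ≤ 3) (hpX : p ≤ X)
    (h1 : 3 * X ^ 3 ≤ o) : False := by
  refine no_num hp h he hpX h1 (Or.inr ?_)
  rfl

/-- the prime does not divide `q` -/
theorem cop_of {p q E d o : ℕ} (hsq : ¬ p ^ 2 ∣ o) (hE : 2 ≤ E)
    (hd : d.Coprime q) (h : q ^ E ∣ d * o) : ¬ p ∣ q := by
  intro hpq
  have h1 : q ^ E ∣ o := (Nat.Coprime.pow_left E hd.symm).dvd_of_dvd_mul_left h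
  exact hsq ((pow_dvd_pow p hE).trans ((pow_dvd_pow_of_dvd hpq E).trans h1))

end Cfsg.Agent.H570.Chk
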