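import Cfsg.Agent.H570.Cent
import Cfsg.Agent.S4343
import Cfsg.Agent.SmallSimple.EvenOrder

/-!
The numerical data of a simple group with less than `p ^ 2` Sylow `p`-subgroups.
-/

set_option autoImplicit false

namespace Cfsg.Agent.H570.Data

open Subgroup Cfsg.Agent.H570.PNil Cfsg.Agent.H570.Gen Cfsg.Agent.H570.PartB
  Cfsg.Agent.SmallSimple Cfsg.Agent.H570.Numbers Cfsg.Agent.H570.Arith

universe u

/-- Numerical data: `o` is the order of the group, `e = |N(P) : C(P)|`. -/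
def Num (p e o : ℕ) : Prop :=
  ∃ n κ, 2 ≤ e ∧ e ∣ p - 1 ∧ o = n * (p * (e * κ)) ∧ p + 1 ≤ n ∧ n < p ^ 2 ∧ n ≡ 1 [MOD p] ∧
    0 < κ ∧ (κ = 1 ∨ (17 ≤ p ∧ ∃ a b k, n = 1 + k * p ∧ AB p k a b ∧ 3 ≤ a ∧ b ∣ e ∧
      κ ≤ (k * e) ^ 2))

variable {G : Type u} [Group G] [Finite G] [IsSimpleGroup G] {p : ℕ} [hp : Fact p.Prime]

/-- If `n_p(G) < p ^ 2` then `p ^ 2` does not divide the order of `G`. -/
theorem not_sq_dvd (hG : ¬ IsMulCommutative G) (hd : p ∣ Nat.card G)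
    (hn : Nat.card (Sylow p G) < p ^ 2) : ¬ p ^ 2 ∣ Nat.card G := by
  obtain ⟨P⟩ : Nonempty (Sylow p G) := inferInstance
  have h1 : Nat.card P = p := S4343.result hG p hd hn P
  intro h
  have h2 : p ^ 2 ∣ Nat.card P := by
    rw [P.card_eq_multiplicity]
    exact pow_dvd_pow _ ((hp.out.pow_dvd_iff_le_factorization Nat.card_pos.ne').1 h)
  rw [h1] at h2
  have h3 := Nat.le_of_dvd hp.out.pos h2
  have h4 : p * 2 ≤ p * p := Nat.mul_le_mul_left _ hp.out.two_le
  have := hp.out.pos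
  rw [sq] at h3
  omega

theorem ne_two (hG : ¬ IsMulCommutative G) (hd : p ∣ Nat.card G)
    (hn : Nat.card (Sylow p G) < p ^ 2) : p ≠ 2 := by
  rintro rfl
  exact not_sq_dvd hG hd hn (EvenOrder.four_dvd_card hG hd)

theorem exists_num (hG : ¬ IsMulCommutative G) (hd : p ∣ Nat.card G)
    (hn : Nat.card (Sylow p G) < p ^ 2)
    (IH : ∀ (S : Type u) [Group S] [Finite S] [IsSimpleGroup S], ¬ IsMulCommutative S →
      Nat.card S < Nat.card G → p ∣ Nat.card S → Nat.card (Sylow p S) < p ^ 2 →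
      OrdList p (Nat.card S)) :
    ∃ e, (∀ P : Sylow p G, (centralizer (P : Set G)).relIndex (normalizer (P : Set G)) = e) ∧
      Num p e (Nat.card G) := by
  have hsq := not_sq_dvd hG hd hn
  have hp2 := ne_two hG hd hn
  have hord : ∀ P : Sylow p G, Nat.card P = p := fun P => S4343.result hG p hd hn P
  have hmod := card_sylow_modEq_one p G
  have hq5 : 5 ≤ Nat.card (Sylow p G) := Embed.five_le_card_sylow hG hd
  have h3 : p ∣ Nat.card (Sylow p G) - 1 := (Nat.modEq_iff_dvd' (by omega)).1 hmod.symm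
  have h4 := Nat.le_of_dvd (by omega) h3
  obtain ⟨k, hk⟩ := h3
  have hk' : Nat.card (Sylow p G) = 1 + k * p := by
    rw [mul_comm k p, ← hk]; omega
  have hk1 : 1 ≤ k := by
    rcases Nat.eq_zero_or_pos k with h | h
    · rw [h] at hk'; omega
    · exact h
  have hkp : k < p := by
    by_contra hcon
    push Not at hcon
    have : p * p ≤ k * p := Nat.mul_le_mul_right _ hcon
    have h5 : p ^ 2 = p * p := sq p
    omega
  have hfin : ∀ (P : Sylow p G) (e : ℕ) (K : Subgroup G), PrimeLocal.IsLocal p P e K →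
      (Nat.card K = 1 ∨ (17 ≤ p ∧ ∃ a b, AB p k a b ∧ 3 ≤ a ∧ b ∣ e ∧
        Nat.card K ≤ (k * e) ^ 2)) →
      ∃ e, (∀ P : Sylow p G, (centralizer (P : Set G)).relIndex (normalizer (P : Set G)) = e) ∧
      Num p e (Nat.card G) := by
    intro P e K hloc h
    refine ⟨e, fun Q => ?_, Nat.card (Sylow p G), Nat.card K, hloc.one_lt, hloc.dvd_pred, ?_,
      by omega, hn, hmod, Nat.card_pos, ?_⟩
    · rw [Cent.relIndex_eq P Q]
      exact LargePrime.relIndex_eq hloc hp.out.pos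
    · rw [hloc.card_eq]; ring
    · rcases h with h | ⟨h, a, b, h5, h6, h7, h8⟩
      · exact Or.inl h
      · exact Or.inr ⟨h, a, b, k, hk', h5, h6, h7, h8⟩
  obtain ⟨P₀⟩ : Nonempty (Sylow p G) := inferInstance
  obtain ⟨e₀, K₀, hloc₀⟩ := PrimeLocal.exists_local hG hd hsq P₀
  by_cases hK : Nat.card K₀ = 1
  · exact hfin P₀ e₀ K₀ hloc₀ (Or.inl hK)
  · obtain ⟨h17, -⟩ := PartA.partA hG hp2 (hord P₀) hloc₀ hk' hkp hK
    obtain ⟨P, Q, R, hPQR⟩ := exists_three hG h17 hd hord hn IH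
    obtain ⟨e, K, hloc⟩ := PrimeLocal.exists_local hG hd hsq P
    apply hfin P e K hloc
    by_cases hK1 : Nat.card K = 1
    · exact Or.inl hK1
    · obtain ⟨-, a, b, h5, h6, h7⟩ := PartA.partA hG hp2 (hord P) hloc hk' hkp hK1
      exact Or.inr ⟨h17, a, b, h5, h6, h7, Cent.card_K_le hG (hord P) hloc hk1 hk' Q R hPQR⟩

end Cfsg.Agent.H570.Data
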