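import Cfsg.Agent.H570.Chk
import Cfsg.Agent.H570.Ineq

/-!
Elimination of the classical groups, numerical part.
-/

set_option autoImplicit false

namespace Cfsg.Agent.H570.Fam

open Cfsg.Agent.H570.Data Cfsg.Agent.H570.Chk Cfsg.Agent.H570.Ineq

theorem coprime_gcd_sub {n q : ℕ} (hq : 2 ≤ q) : (Nat.gcd n (q - 1)).Coprime q := by
  have h1 : (q - 1).Coprime q := by
    have := Nat.coprime_self_sub_left (m := 1) (n := q) (by omega)
    rw [this]
    exact Nat.coprime_one_left _
  exact Nat.Coprime.coprime_dvd_left (Nat.gcd_dvd_right _ _) h1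

theorem coprime_sub {q : ℕ} (hq : 2 ≤ q) : (q - 1).Coprime q := by
  have := Nat.coprime_self_sub_left (m := 1) (n := q) (by omega)
  rw [this]
  exact Nat.coprime_one_left _

theorem coprime_add {q : ℕ} : (q + 1).Coprime q := by
  rw [Nat.coprime_comm]
  exact (Nat.coprime_self_add_right).2 (Nat.coprime_one_right _)

theorem pow_dvd_gl (n q : ℕ) : q ^ (n * (n - 1) / 2) ∣ ∏ i ∈ Finset.range n, (q ^ n - q ^ i) := by
  rw [← Finset.sum_range_id, ← Finset.prod_pow_eq_pow_sum]
  apply Finset.prod_dvd_prod_of_dvd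
  intro i hi
  rw [Finset.mem_range] at hi
  obtain ⟨m, rfl⟩ : ∃ m, n = i + m := ⟨n - i, by omega⟩
  rw [pow_add]
  exact Nat.dvd_sub (Dvd.intro _ rfl) dvd_rfl

/-- prime divisors of the order of `GL_n(q)` -/
theorem dvd_gl {p n q : ℕ} (hp : p.Prime) (hpq : ¬ p ∣ q)
    (h : p ∣ ∏ i ∈ Finset.range n, (q ^ n - q ^ i)) : ∃ j, 1 ≤ j ∧ j ≤ n ∧ p ∣ q ^ j - 1 := by
  obtain ⟨i, hi, h1⟩ := (hp.prime.dvd_finsetProd_iff _).1 h
  rw [Finset.mem_range] at hi
  refine ⟨n - i, by omega, by omega, ?_⟩
  have h2 : q ^ n - q ^ i = q ^ i * (q ^ (n - i) - 1) := by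
    rw [Nat.mul_sub, mul_one, ← pow_add]
    congr 2
    omega
  rw [h2] at h1
  rcases (hp.dvd_mul).1 h1 with h3 | h3
  · exact absurd (hp.dvd_of_dvd_pow h3) hpq
  · exact h3

theorem q_list {q : ℕ} (hq : IsPrimePow q) (h : q < 13) :
    q = 2 ∨ q = 3 ∨ q = 4 ∨ q = 5 ∨ q = 7 ∨ q = 8 ∨ q = 9 ∨ q = 11 := by
  have h0 : q ≠ 0 := hq.ne_zero
  have h1 : q ≠ 1 := hq.one_lt.ne'
  have h6 : q ≠ 6 := by
    rintro rfl
    exact absurd hq (by
      rw [isPrimePow_nat_iff_bounded]
      decide)
  have h10 : q ≠ 10 := by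
    rintro rfl
    exact absurd hq (by
      rw [isPrimePow_nat_iff_bounded]
      decide)
  have h12 : q ≠ 12 := by
    rintro rfl
    exact absurd hq (by
      rw [isPrimePow_nat_iff_bounded]
      decide)
  omega

/-- linear groups, `n ≥ 3` -/
theorem psl {p e n q o : ℕ} (hp : p.Prime) (hq : IsPrimePow q) (hn : 3 ≤ n)
    (ho : Nat.gcd n (q - 1) * ((q - 1) * o) = ∏ i ∈ Finset.range n, (q ^ n - q ^ i))
    (hd : p ∣ o) (hsq : ¬ p ^ 2 ∣ o) (h : Num p e o) (he : ¬ p ∣ q → e ≤ n) :
    n = 3 ∧ ((q = 2 ∧ o = 168) ∨ (q = 3 ∧ o = 5616)) := by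
  have hq2 : 2 ≤ q := hq.two_le
  -- the prime is not the characteristic
  have hpq : ¬ p ∣ q := by
    have h1 : 3 ≤ n * (n - 1) / 2 := by
      have : 3 * 2 ≤ n * (n - 1) := Nat.mul_le_mul hn (by omega)
      omega
    refine cop_of (E := n * (n - 1) / 2) (d := Nat.gcd n (q - 1) * (q - 1)) hsq (by omega)
      (Nat.Coprime.mul_left (coprime_gcd_sub hq2) (coprime_sub hq2)) ?_
    rw [mul_assoc, ho]
    exact pow_dvd_gl n q
  replace he := he hpq
  have hdiv : p ∣ ∏ i ∈ Finset.range n, (q ^ n - q ^ i) := by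
    rw [← ho]
    exact dvd_mul_of_dvd_right (dvd_mul_of_dvd_right hd _) _
  obtain ⟨j, hj1, hjn, hj⟩ := dvd_gl hp hpq hdiv
  have hlow : q ^ (n * (n - 1)) ≤ n * o := by
    have h1 := prod_gl_ge (n := n) (q := q) (by omega) hq2
    rw [← ho] at h1
    have h2 : Nat.gcd n (q - 1) ≤ n := Nat.le_of_dvd (by omega) (Nat.gcd_dvd_left _ _)
    have h3 : q ^ (n * (n - 1)) * (q - 1) ≤ (n * o) * (q - 1) := by
      calc _ ≤ _ := h1
        _ ≤ n * ((q - 1) * o) := Nat.mul_le_mul_right _ h2
        _ = _ := by ring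
    exact Nat.le_of_mul_le_mul_right h3 (by omega)
  rcases Nat.lt_or_ge n 5 with hn5 | hn5
  · obtain rfl | rfl : n = 3 ∨ n = 4 := by omega
    · -- `n = 3`
      rw [Finset.prod_range_succ, Finset.prod_range_succ, Finset.prod_range_succ, Finset.prod_range_zero,
        one_mul, pow_zero, pow_one] at ho
      obtain ⟨t, rfl⟩ : ∃ t, q = t + 1 := ⟨q - 1, by omega⟩
      have e1 : (t + 1) ^ 3 - 1 = t * ((t + 1) ^ 2 + (t + 1) + 1) := by
        have : (t + 1) ^ 3 = t * ((t + 1) ^ 2 + (t + 1) + 1) + 1 := by ring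
        omega
      have e2 : (t + 1) ^ 3 - (t + 1) = (t + 1) * t * (t + 2) := by
        have : (t + 1) ^ 3 = (t + 1) * t * (t + 2) + (t + 1) := by ring
        omega
      have e3 : (t + 1) ^ 3 - (t + 1) ^ 2 = (t + 1) ^ 2 * t := by
        have : (t + 1) ^ 3 = (t + 1) ^ 2 * t + (t + 1) ^ 2 := by ring
        omega
      rw [e1, e2, e3, Nat.add_sub_cancel] at ho
      have ho' : Nat.gcd 3 t * o = (t + 1) ^ 3 * t ^ 2 * (t + 2) * ((t + 1) ^ 2 + (t + 1) + 1) := by
        have ht : 0 < t := by omega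
        apply Nat.eq_of_mul_eq_mul_left ht
        calc t * (Nat.gcd 3 t * o) = Nat.gcd 3 t * (t * o) := by ring
          _ = _ := ho
          _ = _ := by ring
      -- bound for the prime
      have hpX : p ≤ (t + 1) ^ 2 + (t + 1) + 1 := by
        obtain rfl | rfl | rfl : j = 1 ∨ j = 2 ∨ j = 3 := by omega
        · rw [pow_one, Nat.add_sub_cancel] at hj
          have := Nat.le_of_dvd (by omega) hj
          nlinarith
        · have e4 : (t + 1) ^ 2 - 1 = t * (t + 2) := by
            have : (t + 1) ^ 2 = t * (t + 2) + 1 := by ring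
            omega
          rw [e4] at hj
          rcases (hp.dvd_mul).1 hj with h5 | h5
          · have := Nat.le_of_dvd (by omega) h5
            nlinarith
          · have := Nat.le_of_dvd (by omega) h5
            nlinarith
        · rw [e1] at hj
          rcases (hp.dvd_mul).1 hj with h5 | h5
          · have := Nat.le_of_dvd (by omega) h5
            nlinarith
          · exact Nat.le_of_dvd (by positivity) h5
      rcases Nat.lt_or_ge t 4 with ht4 | ht4
      · obtain rfl | rfl | rfl : t = 1 ∨ t = 2 ∨ t = 3 := by omega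
        · norm_num at ho'
          exact ⟨rfl, Or.inl ⟨rfl, ho'⟩⟩
        · have : Nat.gcd 3 2 = 1 := by norm_num
          rw [this] at ho'
          norm_num at ho'
          exact ⟨rfl, Or.inr ⟨rfl, ho'⟩⟩
        · exfalso
          have : Nat.gcd 3 3 = 3 := by norm_num
          rw [this] at ho'
          have ho2 : o = 20160 := by omega
          have hp7 : p ≤ 7 := by
            rw [ho2, show 20160 = 2 ^ 6 * (3 ^ 2 * (5 * 7)) by norm_num] at hd
            rcases (hp.dvd_mul).1 hd with h5 | h5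
            · exact (Nat.le_of_dvd (by norm_num) (hp.dvd_of_dvd_pow h5)).trans (by norm_num)
            rcases (hp.dvd_mul).1 h5 with h5 | h5
            · exact (Nat.le_of_dvd (by norm_num) (hp.dvd_of_dvd_pow h5)).trans (by norm_num)
            rcases (hp.dvd_mul).1 h5 with h5 | h5
            · exact (Nat.le_of_dvd (by norm_num) h5).trans (by norm_num)
            · exact Nat.le_of_dvd (by norm_num) h5
          exact no_num3 hp h he hp7 (by rw [ho2]; norm_num)
      · exfalso
        refine no_num3 hp h he hpX ?_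
        have h6 : Nat.gcd 3 t ≤ 3 := Nat.le_of_dvd (by norm_num) (Nat.gcd_dvd_left _ _)
        have h7 : 3 * (3 * ((t + 1) ^ 2 + (t + 1) + 1) ^ 3) ≤ 3 * o := by
          calc 3 * (3 * ((t + 1) ^ 2 + (t + 1) + 1) ^ 3)
              = (9 * ((t + 1) ^ 2 + (t + 1) + 1) ^ 2) * ((t + 1) ^ 2 + (t + 1) + 1) := by ring
            _ ≤ ((t + 1) ^ 3 * t ^ 2 * (t + 2)) * ((t + 1) ^ 2 + (t + 1) + 1) := by
              apply Nat.mul_le_mul_right
              obtain ⟨s, rfl⟩ : ∃ s, t = s + 4 := ⟨t - 4, by omega⟩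
              ring_nf
              nlinarith [sq_nonneg s, sq_nonneg (s ^ 2), sq_nonneg (s ^ 3)]
            _ = Nat.gcd 3 t * o := by rw [ho']
            _ ≤ 3 * o := Nat.mul_le_mul_right _ h6
        omega
    · -- `n = 4`
      exfalso
      have hpX : p ≤ q ^ 2 + q + 1 := by
        obtain ⟨t, rfl⟩ : ∃ t, q = t + 1 := ⟨q - 1, by omega⟩
        obtain rfl | rfl | rfl | rfl : j = 1 ∨ j = 2 ∨ j = 3 ∨ j = 4 := by omega
        · rw [pow_one, Nat.add_sub_cancel] at hj
          have := Nat.le_of_dvd (by omega) hj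
          nlinarith
        · have e4 : (t + 1) ^ 2 - 1 = t * (t + 2) := by
            have : (t + 1) ^ 2 = t * (t + 2) + 1 := by ring
            omega
          rw [e4] at hj
          rcases (hp.dvd_mul).1 hj with h5 | h5
          · have := Nat.le_of_dvd (by omega) h5
            nlinarith
          · have := Nat.le_of_dvd (by omega) h5
            nlinarith
        · have e1 : (t + 1) ^ 3 - 1 = t * ((t + 1) ^ 2 + (t + 1) + 1) := by
            have : (t + 1) ^ 3 = t * ((t + 1) ^ 2 + (t + 1) + 1) + 1 := by ring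
            omega
          rw [e1] at hj
          rcases (hp.dvd_mul).1 hj with h5 | h5
          · have := Nat.le_of_dvd (by omega) h5
            nlinarith
          · exact Nat.le_of_dvd (by positivity) h5
        · have := prime_le_of_dvd_sub_one (k := 2) hp hq2 (by norm_num) (by simpa using hj)
          omega
      rcases Nat.lt_or_ge q 6 with hq6 | hq6
      · have hprod : ∏ i ∈ Finset.range 4, (q ^ 4 - q ^ i) =
            (q ^ 4 - 1) * (q ^ 4 - q) * (q ^ 4 - q ^ 2) * (q ^ 4 - q ^ 3) := by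
          rw [Finset.prod_range_succ, Finset.prod_range_succ, Finset.prod_range_succ,
            Finset.prod_range_succ, Finset.prod_range_zero, one_mul, pow_zero, pow_one]
        rw [hprod] at ho
        rcases q_list hq (by omega) with rfl | rfl | rfl | rfl | rfl | rfl | rfl | rfl
        · have ho2 : o = 20160 := by norm_num at ho; omega
          exact no_num hp h he hpX (by rw [ho2]; norm_num) (Or.inr (by rw [ho2]; decide +kernel))
        · have ho2 : o = 6065280 := by norm_num at ho; omega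
          exact no_num hp h he hpX (by rw [ho2]; norm_num) (Or.inr (by rw [ho2]; decide +kernel))
        · have ho2 : o = 987033600 := by norm_num at ho; omega
          exact no_num hp h he hpX (by rw [ho2]; norm_num) (Or.inr (by rw [ho2]; decide +kernel))
        · have ho2 : o = 7254000000 := by norm_num at ho; omega
          exact no_num hp h he hpX (by rw [ho2]; norm_num) (Or.inr (by rw [ho2]; decide +kernel))
        all_goals omega
      · refine no_num hp h he hpX ?_ (Or.inl ?_)
        · have h7 : 4 * (4 * (q ^ 2 + q + 1) ^ 3) ≤ 4 * o := by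
            refine le_trans ?_ hlow
            calc 4 * (4 * (q ^ 2 + q + 1) ^ 3) ≤ 4 * (4 * (2 * q ^ 2) ^ 3) := by
                  gcongr; nlinarith
              _ = 128 * q ^ 6 := by ring
              _ ≤ 6 ^ 6 * q ^ 6 := by gcongr; norm_num
              _ ≤ q ^ 6 * q ^ 6 := by gcongr
              _ = q ^ (4 * (4 - 1)) := by rw [← pow_add]
          omega
        · have h7 : 4 * ((4 ^ 2 + 1) ^ 5 * 4 ^ 3) ≤ 4 * o := by
            refine le_trans ?_ hlow
            calc 4 * ((4 ^ 2 + 1) ^ 5 * 4 ^ 3) ≤ 6 ^ (4 * (4 - 1)) := by norm_num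
              _ ≤ q ^ (4 * (4 - 1)) := Nat.pow_le_pow_left hq6 _
          omega
  · exfalso
    have hpX : p ≤ q ^ n + 1 := by
      have h1 : q ^ j ≤ q ^ n := Nat.pow_le_pow_right (by omega) hjn
      have h2 : 2 ≤ q ^ j := by
        calc 2 ≤ q := hq2
          _ = q ^ 1 := (pow_one q).symm
          _ ≤ q ^ j := Nat.pow_le_pow_right (by omega) hj1
      have := Nat.le_of_dvd (by omega) hj
      omega
    have hN : n * (q ^ n + 1) ^ 3 ≤ o := by
      have := (i1 hn5 hq2).trans hlow
      exact Nat.le_of_mul_le_mul_left this (by omega)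
    rcases Nat.lt_or_ge n 7 with hn7 | hn7
    · obtain rfl | rfl : n = 5 ∨ n = 6 := by omega
      · rcases Nat.lt_or_ge q 4 with hq4 | hq4
        · have hprod : ∏ i ∈ Finset.range 5, (q ^ 5 - q ^ i) =
              (q ^ 5 - 1) * (q ^ 5 - q) * (q ^ 5 - q ^ 2) * (q ^ 5 - q ^ 3) * (q ^ 5 - q ^ 4) := by
            rw [Finset.prod_range_succ, Finset.prod_range_succ, Finset.prod_range_succ,
              Finset.prod_range_succ, Finset.prod_range_succ, Finset.prod_range_zero, one_mul, pow_zero,
              pow_one]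
          rw [hprod] at ho
          obtain rfl | rfl : q = 2 ∨ q = 3 := by omega
          · have ho2 : o = 9999360 := by norm_num at ho; omega
            exact no_num hp h he hpX hN (Or.inr (by rw [ho2]; decide +kernel))
          · have ho2 : o = 237783237120 := by norm_num at ho; omega
            exact no_num hp h he hpX hN (Or.inr (by rw [ho2]; decide +kernel))
        · refine no_num hp h he hpX hN (Or.inl ?_)
          have h7 : 5 * ((5 ^ 2 + 1) ^ 5 * 5 ^ 3) ≤ 5 * o := by
            refine le_trans ?_ hlow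
            calc 5 * ((5 ^ 2 + 1) ^ 5 * 5 ^ 3) ≤ 4 ^ (5 * (5 - 1)) := by norm_num
              _ ≤ q ^ (5 * (5 - 1)) := Nat.pow_le_pow_left hq4 _
          omega
      · rcases Nat.lt_or_ge q 3 with hq4 | hq4
        · obtain rfl : q = 2 := by omega
          have hprod : ∏ i ∈ Finset.range 6, (2 ^ 6 - 2 ^ i) = 20158709760 := by
            simp [Finset.prod_range_succ]
          rw [hprod] at ho
          have ho2 : o = 20158709760 := by norm_num at ho; omega
          exact no_num hp h he hpX hN (Or.inr (by rw [ho2]; decide +kernel))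
        · refine no_num hp h he hpX hN (Or.inl ?_)
          have h7 : 6 * ((6 ^ 2 + 1) ^ 5 * 6 ^ 3) ≤ 6 * o := by
            refine le_trans ?_ hlow
            calc 6 * ((6 ^ 2 + 1) ^ 5 * 6 ^ 3) ≤ 3 ^ (6 * (6 - 1)) := by norm_num
              _ ≤ q ^ (6 * (6 - 1)) := Nat.pow_le_pow_left hq4 _
          omega
    · refine no_num hp h he hpX hN (Or.inl ?_)
      have := (i2 hn7 hq2).trans hlow
      exact Nat.le_of_mul_le_mul_left this (by omega)

end Cfsg.Agent.H570.Fam
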