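import Cfsg.Agent.H570.Chk
import Cfsg.Agent.OrdDiv.Main

/-!
Elimination of the alternating and sporadic groups, numerical part.
-/

set_option autoImplicit false

namespace Cfsg.Agent.H570.Fam

open Cfsg.Agent.H570.Data Cfsg.Agent.H570.Chk Cfsg.Agent.OrdDiv

open scoped Nat

theorem fact_ge4 (m : ℕ) (hm : 7 ≤ m) : 2 * m ^ 4 ≤ m ! := by
  induction m, hm using Nat.le_induction with
  | base => decide
  | succ m hm ih =>
    rw [Nat.factorial_succ]
    have h1 : 2 * (m + 1) ^ 4 ≤ (m + 1) * (2 * m ^ 4) := by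
      have h2 : (m + 1) ^ 3 ≤ m ^ 4 := by
        have h3 : 7 * m ^ 3 ≤ m * m ^ 3 := Nat.mul_le_mul_right _ hm
        have h4 : (m + 1) ^ 3 ≤ 7 * m ^ 3 := by
          calc (m + 1) ^ 3 = m ^ 3 + 3 * m ^ 2 + 3 * m + 1 := by ring
            _ ≤ m ^ 3 + m * m ^ 2 + m ^ 2 * m + m ^ 3 := by
              gcongr
              · omega
              · nlinarith
              · exact Nat.one_le_pow _ _ (by omega)
            _ ≤ 7 * m ^ 3 := by ring_nf; omega
        calc (m + 1) ^ 3 ≤ 7 * m ^ 3 := h4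
          _ ≤ m * m ^ 3 := h3
          _ = m ^ 4 := by ring
      calc 2 * (m + 1) ^ 4 = (m + 1) * (2 * (m + 1) ^ 3) := by ring
        _ ≤ (m + 1) * (2 * m ^ 4) := by gcongr
    exact h1.trans (Nat.mul_le_mul_left _ ih)

theorem pow_succ_le (m : ℕ) (hm : 16 ≤ m) : (m + 1) ^ 8 ≤ (m + 1) * m ^ 8 := by
  have h1 : 16 * (m + 1) ≤ 17 * m := by omega
  have h2 : 16 ^ 7 * (m + 1) ^ 7 ≤ 17 ^ 7 * m ^ 7 := by
    rw [← mul_pow, ← mul_pow]; exact Nat.pow_le_pow_left h1 7
  have h3 : 17 ^ 7 ≤ 16 ^ 7 * 16 := by norm_num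
  have h4 : 16 ^ 7 * (m + 1) ^ 7 ≤ 16 ^ 7 * m ^ 8 := by
    calc 16 ^ 7 * (m + 1) ^ 7 ≤ 17 ^ 7 * m ^ 7 := h2
      _ ≤ (16 ^ 7 * 16) * m ^ 7 := Nat.mul_le_mul_right _ h3
      _ ≤ (16 ^ 7 * m) * m ^ 7 := by gcongr
      _ = 16 ^ 7 * m ^ 8 := by ring
  have h5 : (m + 1) ^ 7 ≤ m ^ 8 := Nat.le_of_mul_le_mul_left h4 (by norm_num)
  calc (m + 1) ^ 8 = (m + 1) * (m + 1) ^ 7 := by ring
    _ ≤ _ := Nat.mul_le_mul_left _ h5

theorem fact_ge8 (m : ℕ) (hm : 17 ≤ m) : 2 * m ^ 8 ≤ m ! := by
  induction m, hm using Nat.le_induction with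
  | base => decide +kernel
  | succ m hm ih =>
    rw [Nat.factorial_succ]
    calc 2 * (m + 1) ^ 8 ≤ 2 * ((m + 1) * m ^ 8) := Nat.mul_le_mul_left _ (pow_succ_le m (by omega))
      _ = (m + 1) * (2 * m ^ 8) := by ring
      _ ≤ _ := Nat.mul_le_mul_left _ ih

theorem alt {p e m o : ℕ} (hp : p.Prime) (hm : 5 ≤ m) (ho : m ! = 2 * o)
    (hd : p ∣ o) (hsq : ¬ p ^ 2 ∣ o) (h : Num p e o) : m = 5 ∧ p = 5 := by
  have hpm : p ≤ m := by
    rw [← hp.dvd_factorial, ho]
    exact dvd_mul_of_dvd_right hd _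
  rcases cases_of hp h with ⟨n, ho2, hn1, hn2, hmod, he2, hed⟩ |
    ⟨hp17, a, b, c, hpab, rfl, ha3, hab, hc, hlt, hck⟩
  · have hep : e ≤ p - 1 := Nat.le_of_dvd (by have := hp.two_le; omega) hed
    have hlt : o < p ^ 4 := by
      have hp0 := hp.pos
      calc o < p ^ 2 * (p * e) := by
            rw [ho2]
            exact Nat.mul_lt_mul_of_pos_right hn2 (by positivity)
        _ ≤ p ^ 2 * (p * p) := by gcongr; omega
        _ = p ^ 4 := by ring
    have hm6 : m ≤ 6 := by
      by_contra hcon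
      have h1 := fact_ge4 m (by omega)
      have h2 : p ^ 4 ≤ m ^ 4 := Nat.pow_le_pow_left hpm 4
      omega
    obtain rfl | rfl : m = 5 ∨ m = 6 := by omega
    · have ho3 : o = 60 := by
        rw [show (5)! = 120 by decide] at ho
        omega
      subst ho3
      refine ⟨rfl, ?_⟩
      have hp5 : p = 2 ∨ p = 3 ∨ p = 4 ∨ p = 5 := by
        have := hp.two_le
        omega
      rcases hp5 with rfl | rfl | rfl | rfl
      · exact absurd (by norm_num) hsq
      · exfalso
        obtain rfl : e = 2 := by omega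
        omega
      · exact absurd hp (by norm_num)
      · rfl
    · exfalso
      have ho3 : o = 360 := by
        rw [show (6)! = 720 by decide] at ho
        omega
      subst ho3
      have hp5 : p = 2 ∨ p = 3 ∨ p = 4 ∨ p = 5 ∨ p = 6 := by
        have := hp.two_le
        omega
      rcases hp5 with rfl | rfl | rfl | rfl | rfl
      · exact absurd (by norm_num) hsq
      · exact absurd (by norm_num) hsq
      · exact absurd hp (by norm_num)
      · obtain rfl | rfl | rfl : e = 2 ∨ e = 3 ∨ e = 4 := by omega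
        · omega
        · omega
        · obtain rfl : n = 18 := by omega
          exact absurd hmod (by decide)
      · exact absurd hp (by norm_num)
  · exfalso
    have hep : b * c ≤ p := by
      have : o ≠ 0 := by
        rintro rfl
        have := Nat.factorial_pos m
        omega
      obtain ⟨n, κ, he2, hed, -⟩ := h
      have := Nat.le_of_dvd (by omega) hed
      omega
    have h1 := fact_ge8 m (by omega)
    have h2 : p ^ 5 * (b * c) ^ 3 ≤ m ^ 8 := by
      calc p ^ 5 * (b * c) ^ 3 ≤ m ^ 5 * m ^ 3 := by gcongr; omega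
        _ = m ^ 8 := by ring
    omega

/-- the check for a sporadic group -/
def sporOk (o P : ℕ) : Bool :=
  Nat.beq ((P !) ^ 50 % o) 0 && Nat.ble (P ^ 4) o && (Nat.ble (P ^ 8) o || chk (P - 1) o)

theorem of_sporOk {p e o P : ℕ} (h0 : sporOk o P = true) (hp : p.Prime)
    (hd : p ∣ o) (h : Num p e o) : False := by
  unfold sporOk at h0
  rw [Bool.and_eq_true, Bool.and_eq_true, Bool.or_eq_true, Nat.beq_eq, Nat.ble_eq, Nat.ble_eq] at h0
  obtain ⟨⟨h1, h2⟩, h3⟩ := h0
  have hpP : p ≤ P := by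
    rw [← hp.dvd_factorial]
    exact hp.dvd_of_dvd_pow (hd.trans (Nat.dvd_of_mod_eq_zero h1))
  rcases cases_of hp h with ⟨n, ho2, hn1, hn2, hmod, he2, hed⟩ |
    ⟨hp17, a, b, c, hpab, rfl, ha3, hab, hc, hlt, hck⟩
  · have hep : e ≤ p - 1 := Nat.le_of_dvd (by have := hp.two_le; omega) hed
    have hp0 := hp.pos
    have hlt : o < p ^ 4 := by
      calc o < p ^ 2 * (p * e) := by
            rw [ho2]
            exact Nat.mul_lt_mul_of_pos_right hn2 (by positivity)
        _ ≤ p ^ 2 * (p * p) := by gcongr; omega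
        _ = p ^ 4 := by ring
    have : p ^ 4 ≤ P ^ 4 := Nat.pow_le_pow_left hpP 4
    omega
  · have hep : b * c ≤ p - 1 := by
      obtain ⟨n, κ, he2, hed, -⟩ := h
      exact Nat.le_of_dvd (by omega) hed
    rcases h3 with h3 | h3
    · have h2 : p ^ 5 * (b * c) ^ 3 ≤ P ^ 8 := by
        calc p ^ 5 * (b * c) ^ 3 ≤ P ^ 5 * P ^ 3 := by gcongr; omega
          _ = P ^ 8 := by ring
      omega
    · rw [of_chk h3 hab (by omega) hc (by omega)] at hck
      exact Bool.noConfusion hck

theorem spor_ok : ∀ x ∈ spor, x.2 = 7920 ∨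
    (List.any [7, 11, 13, 17, 19, 23, 29, 31, 43, 47, 67, 71] fun P => sporOk x.2 P) = true := by
  decide +kernel

theorem spor_false {p e : ℕ} {x : Grp × ℕ} (hx : x ∈ spor) (hp : p.Prime) (hd : p ∣ x.2)
    (h : Num p e x.2) : False := by
  rcases spor_ok x hx with h1 | h1
  · rw [h1] at h hd
    have hp11 : p ≤ 11 := by
      rw [← hp.dvd_factorial]
      refine hp.dvd_of_dvd_pow (n := 4) (hd.trans ?_)
      decide +kernel
    rcases cases_of hp h with ⟨n, ho2, hn1, hn2, hmod, he2, hed⟩ |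
      ⟨hp17, a, b, c, hpab, rfl, ha3, hab, hc, hlt, hck⟩
    · have hep : e ≤ p - 1 := Nat.le_of_dvd (by have := hp.two_le; omega) hed
      have hp0 := hp.pos
      have hlt : 7920 < p ^ 4 := by
        calc 7920 < p ^ 2 * (p * e) := by
              rw [ho2]
              exact Nat.mul_lt_mul_of_pos_right hn2 (by positivity)
          _ ≤ p ^ 2 * (p * p) := by gcongr; omega
          _ = p ^ 4 := by ring
      have h10 : 10 ≤ p := by
        by_contra hcon
        have : p ^ 4 ≤ 9 ^ 4 := Nat.pow_le_pow_left (by omega) 4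
        omega
      obtain rfl | rfl : p = 10 ∨ p = 11 := by omega
      · exact absurd hp (by norm_num)
      · norm_num at hed
        have he3 : e = 2 ∨ e = 5 ∨ e = 10 := by
          have : e ≤ 10 := by omega
          interval_cases e <;> first | omega | (exfalso; revert hed; decide)
        rcases he3 with rfl | rfl | rfl
        · omega
        · omega
        · obtain rfl : n = 72 := by omega
          exact absurd hmod (by decide)
    · omega
  · rw [List.any_eq_true] at h1
    obtain ⟨P, -, h2⟩ := h1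
    exact of_sporOk h2 hp hd h

end Cfsg.Agent.H570.Fam
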