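import Cfsg.Agent.H570.List
import Cfsg.Agent.Lib.PSolvable
import Cfsg.Agent.H561.HallSylow
import Cfsg.Agent.PLocal.PSolvable
import Cfsg.Agent.S4303

/-!
Sylow numbers below `p ^ 2` of arbitrary finite groups.
-/

set_option autoImplicit false

namespace Cfsg.Agent.H570.HallP

open Subgroup Cfsg.Agent.H571.SylowNumber Cfsg.Agent.H571.SylowParts Cfsg.Agent.H570.List
  Cfsg.Agent.H570.Quot

universe u

variable {p : ℕ} [hp : Fact p.Prime]

omit hp in
theorem card_sylow_of_subsingleton {G : Type*} [Group G] [Subsingleton G] :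
    Nat.card (Sylow p G) = 1 := by
  have : Subsingleton (Sylow p G) := ⟨fun P Q => Sylow.ext (Subsingleton.elim _ _)⟩
  rw [Nat.card_eq_one_iff_unique]
  exact ⟨this, inferInstance⟩

/-- In a `p`-solvable group the prime parts of `n_p` are `≡ 1` mod `p`. -/
theorem good_of_pSolvable (p : ℕ) [hp : Fact p.Prime] :
    ∀ (n : ℕ) (G : Type u) [Group G] [Finite G], Cfsg.IsPSolvable p G → Nat.card G = n →
      Good p (Nat.card (Sylow p G)) := by
  intro n
  induction n using Nat.strong_induction_on with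
  | _ n ih =>
    intro G _ _ hG hn
    rcases subsingleton_or_nontrivial G with hs | hs
    · rw [card_sylow_of_subsingleton]
      exact Good.one p
    · obtain ⟨N, hN, h1, -, h2⟩ :=
        Lib.PSolvable.sep_of_pSolvable p hG ⊥ ⊤ inferInstance inferInstance bot_lt_top
      rw [Subgroup.relIndex_bot_left] at h2
      obtain ⟨P⟩ : Nonempty (Sylow p G) := inferInstance
      rw [card_sylow_eq_mul P N]
      have hcard : Nat.card (G ⧸ N) < n := hn ▸ S4303.card_quotient_lt h1.ne'
      have hQ := Lib.PSolvable.IsPSolvable_of_surjective p hG (QuotientGroup.mk' N)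
        (QuotientGroup.mk'_surjective N)
      refine Good.mul (ih _ hcard (G ⧸ N) hQ rfl) ?_ Nat.card_pos.ne' Nat.card_pos.ne'
      rcases h2 with ⟨m, hm⟩ | h2
      · exact good_sup hp.out P N (IsPGroup.of_card hm)
      · exact H561.HallSylow.good_pprime P N ((hp.out.coprime_iff_not_dvd).1 h2.symm)

omit hp in
/-- `n ≡ 1` with `Good` and `n < p ^ 2` is a prime power -/
theorem prime_pow_of_good (hp : p.Prime) {n : ℕ} (h : Good p n) (h1 : n ≡ 1 [MOD p])
    (hn : n < p ^ 2) : ∃ q k : ℕ, q.Prime ∧ n = q ^ k := by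
  rcases Nat.lt_or_ge n 2 with h2 | h2
  · rcases (by omega : n = 0 ∨ n = 1) with rfl | rfl
    · exfalso
      have := (Nat.modEq_iff_dvd' (by omega)).1 h1
      have h3 := Nat.le_of_dvd (by omega) this
      have := hp.two_le
      omega
    · exact ⟨2, 0, Nat.prime_two, rfl⟩
  · have hq := Nat.minFac_prime (n := n) (by omega)
    set q := n.minFac with hqd
    have hqn : q ∣ n := Nat.minFac_dvd n
    set k := n.factorization q with hk
    have hk1 : 1 ≤ k := (hq.dvd_iff_one_le_factorization (by omega)).1 hqn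
    have hmod : q ^ k ≡ 1 [MOD p] := h q hq
    obtain ⟨t, ht⟩ : q ^ k ∣ n := Nat.ordProj_dvd n q
    have htm : t ≡ 1 [MOD p] := by
      have h3 : q ^ k * t ≡ 1 * t [MOD p] := hmod.mul_right t
      rw [← ht, one_mul] at h3
      exact h3.symm.trans h1
    have key : ∀ x : ℕ, x ≡ 1 [MOD p] → 1 < x → p + 1 ≤ x := by
      intro x hx hx1
      have h3 := (Nat.modEq_iff_dvd' (by omega)).1 hx.symm
      have := Nat.le_of_dvd (by omega) h3
      omega
    have hqk : 1 < q ^ k := Nat.one_lt_pow (by omega) hq.one_lt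
    have ht0 : 0 < t := by
      rcases Nat.eq_zero_or_pos t with h3 | h3
      · rw [h3] at ht; omega
      · exact h3
    rcases Nat.lt_or_ge 1 t with ht1 | ht1
    · exfalso
      have h3 := key _ hmod hqk
      have h4 := key _ htm ht1
      have h5 : (p + 1) * (p + 1) ≤ q ^ k * t := Nat.mul_le_mul h3 h4
      rw [← ht] at h5
      nlinarith
    · obtain rfl : t = 1 := by omega
      exact ⟨q, k, hq, by rw [← mul_one (q ^ k)]; exact ht⟩

/-- a nonabelian simple section -/
theorem exists_simple (p : ℕ) [hp : Fact p.Prime] :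
    ∀ (n : ℕ) (G : Type u) [Group G] [Finite G], Nat.card G = n → ¬ Cfsg.IsPSolvable p G →
      ∃ (S : Type u) (_ : Group S) (_ : Finite S) (_ : IsSimpleGroup S), ¬ IsMulCommutative S ∧
        p ∣ Nat.card S ∧ Nat.card (Sylow p S) ∣ Nat.card (Sylow p G) := by
  intro n
  induction n using Nat.strong_induction_on with
  | _ n ih =>
    intro G _ _ hn hG
    by_cases hs : IsSimpleGroup G
    · by_cases hc : IsMulCommutative G
      · exfalso
        apply hG
        have hsol : Group.IsSolvable G := by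
          let _ : CommGroup G := { ‹Group G› with mul_comm := hc.is_comm.comm }
          infer_instance
        exact Lib.PSolvable.IsPSolvable_of_solvable p
      · by_cases hd : p ∣ Nat.card G
        · exact ⟨G, inferInstance, inferInstance, hs, hc, hd, dvd_rfl⟩
        · exfalso
          apply hG
          exact PLocal.PSolvable.isPSolvable_of_coprime ((hp.out.coprime_iff_not_dvd).2 hd).symm
    · rcases subsingleton_or_nontrivial G with hsub | hnt
      · exfalso
        apply hG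
        apply PLocal.PSolvable.isPSolvable_of_coprime
        rw [Nat.card_of_subsingleton (1 : G)]
        exact Nat.coprime_one_left _
      obtain ⟨K, hKn, hKb, hKt⟩ : ∃ K : Subgroup G, K.Normal ∧ K ≠ ⊥ ∧ K ≠ ⊤ := by
        by_contra hcon
        push Not at hcon
        exact hs ⟨fun N hN => or_iff_not_imp_left.2 (fun hNb => hcon N hN hNb)⟩
      obtain ⟨P⟩ : Nonempty (Sylow p G) := inferInstance
      have h1 := card_sylow_eq_mul P K
      have h2 := card_sylow_sup P K _ rfl
      by_cases hQ : Cfsg.IsPSolvable p (G ⧸ K)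
      · have hK : ¬ Cfsg.IsPSolvable p K := fun hK =>
          hG (Lib.PSolvable.IsPSolvable_of_extension p K hK hQ)
        obtain ⟨S, _, _, _, h3, h4, h5⟩ := ih _ (hn ▸ S4303.card_lt_of_ne_top hKt) K rfl hK
        refine ⟨S, inferInstance, inferInstance, inferInstance, h3, h4, h5.trans ?_⟩
        rw [h1, h2]
        exact dvd_mul_of_dvd_right (dvd_mul_right _ _) _
      · obtain ⟨S, _, _, _, h3, h4, h5⟩ := ih _ (hn ▸ S4303.card_quotient_lt hKb) (G ⧸ K) rfl hQ
        refine ⟨S, inferInstance, inferInstance, inferInstance, h3, h4, h5.trans ?_⟩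
        rw [h1]
        exact Dvd.intro _ rfl

omit hp in
/-- a product of numbers `≡ 1` mod `p` that is less than `p ^ 2` -/
theorem one_factor (hp : p.Prime) {x y : ℕ} (hx : x ≡ 1 [MOD p]) (hxy : x * y ≡ 1 [MOD p])
    (hx1 : x ≠ 1) (hlt : x * y < p ^ 2) : y = 1 := by
  have key : ∀ x : ℕ, x ≡ 1 [MOD p] → x ≠ 1 → p + 1 ≤ x := by
    intro x hx hx1
    have hx0 : x ≠ 0 := by
      rintro rfl
      have h3 := (Nat.modEq_iff_dvd' (by omega)).1 hx
      have h4 := Nat.le_of_dvd (by omega) h3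
      have := hp.two_le
      omega
    have h3 := (Nat.modEq_iff_dvd' (by omega)).1 hx.symm
    have := Nat.le_of_dvd (by omega) h3
    omega
  by_contra hy1
  have hy : y ≡ 1 [MOD p] := by
    have h3 : x * y ≡ 1 * y [MOD p] := hx.mul_right y
    rw [one_mul] at h3
    exact h3.symm.trans hxy
  have h5 : (p + 1) * (p + 1) ≤ x * y := Nat.mul_le_mul (key x hx hx1) (key y hy hy1)
  nlinarith

omit hp in
/-- the exceptional values are not prime powers -/
theorem not_prime_pow (hp : p.Prime) (hp' : ¬ (3 < p ∧ ∃ k : ℕ, p + 1 = 2 ^ k)) {n : ℕ} (h : Val p n) :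
    ¬ ∃ q k : ℕ, q.Prime ∧ n = q ^ k := by
  rintro ⟨q, k, hq, hnk⟩
  have two : 2 ∣ n → n = 2 ^ k := by
    intro h2
    rw [hnk] at h2
    have := (Nat.prime_dvd_prime_iff_eq Nat.prime_two hq).1 (Nat.prime_two.dvd_of_dvd_pow h2)
    rw [hnk, this]
  rcases h with ⟨h5, h⟩ | ⟨h5, h⟩ | ⟨h5, ⟨j, hj⟩, h⟩ | ⟨h5, hk, h⟩
  · apply hp'
    refine ⟨by omega, k, ?_⟩
    rw [← h]
    apply two
    rw [h]
    obtain ⟨s, hs⟩ := hp.odd_of_ne_two (by omega)
    exact ⟨s + 1, by omega⟩
  · have h2 : n = 2 ^ k := two (by rw [h]; norm_num)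
    rw [h] at h2
    have h3 : 3 ∣ 2 ^ k := by rw [← h2]; norm_num
    have := Nat.prime_three.dvd_of_dvd_pow h3
    norm_num at this
  · -- `p = 2 ^ j + 1`
    have hj2 : 2 ≤ j := by
      by_contra hcon
      have : 2 ^ j ≤ 2 ^ 1 := Nat.pow_le_pow_right (by norm_num) (by omega)
      omega
    obtain ⟨i, rfl⟩ : ∃ i, j = i + 2 := ⟨j - 2, by omega⟩
    have e1 : p - 1 = 2 * (2 * 2 ^ i) := by rw [hj, pow_add]; omega
    have e2 : p - 2 = 2 * (2 * 2 ^ i) - 1 := by omega
    have e3 : n = (2 * 2 ^ i) * (2 * (2 * 2 ^ i) - 1) := by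
      apply Nat.eq_of_mul_eq_mul_left (show 0 < 2 by norm_num)
      rw [h, e1, e2]
      ring
    have h2 : n = 2 ^ k := two (by rw [e3]; exact ⟨2 ^ i * (2 * (2 * 2 ^ i) - 1), by ring⟩)
    have h3 : 2 * (2 * 2 ^ i) - 1 ∣ 2 ^ k := by
      rw [← h2, e3]; exact Dvd.intro_left _ rfl
    obtain ⟨m, -, hm⟩ := (Nat.dvd_prime_pow Nat.prime_two).1 h3
    have hi : 1 ≤ 2 ^ i := Nat.one_le_two_pow
    rcases Nat.eq_zero_or_pos m with h4 | h4
    · rw [h4, pow_zero] at hm
      omega
    · obtain ⟨m', rfl⟩ : ∃ m', m = m' + 1 := ⟨m - 1, by omega⟩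
      rw [pow_succ] at hm
      omega
  · exact hp' ⟨by omega, hk⟩

theorem card_sylow_one_of_not {S : Type*} [Group S] [Finite S] [IsSimpleGroup S]
    (h : IsMulCommutative S ∨ ¬ p ∣ Nat.card S) : Nat.card (Sylow p S) = 1 := by
  obtain ⟨P⟩ : Nonempty (Sylow p S) := inferInstance
  have hN : (P : Subgroup S).Normal := by
    rcases h with h | h
    · refine ⟨fun n hn g => ?_⟩
      rw [h.is_comm.comm g n, mul_inv_cancel_right]
      exact hn
    · have h1 : (P : Subgroup S) = ⊥ := by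
        rw [← Subgroup.card_eq_one, P.card_eq_multiplicity, Nat.factorization_eq_zero_of_not_dvd h,
          pow_zero]
      rw [h1]
      infer_instance
  have : Subsingleton (Sylow p S) := by
    have := Sylow.unique_of_normal P hN
    exact ⟨fun a b => (Subsingleton.elim a b)⟩
  rw [Nat.card_eq_one_iff_unique]
  exact ⟨this, inferInstance⟩

section

variable (T : OrdDiv.OrderTable.{u})
  (hK : ∀ (X : Type u) [Group X] [Finite X] [IsSimpleGroup X], IsKnownSimple' X)

include T hK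

theorem s4338 {G : Type u} [Group G] [Finite G] (hn : Nat.card (Sylow p G) < p ^ 2) :
    (∃ q k : ℕ, q.Prime ∧ Nat.card (Sylow p G) = q ^ k) ∨
    (p = 13 ∧ Nat.card (Sylow p G) = 144) ∨
    (p ≠ 2 ∧ (¬ ∃ k : ℕ, p + 1 = 2 ^ k) ∧ Nat.card (Sylow p G) = 1 + p) ∨
    (3 < p ∧ (∃ k : ℕ, p = 2 ^ k + 1) ∧ 2 * Nat.card (Sylow p G) = 2 + (p - 3) * p) ∨
    (3 < p ∧ (∃ k : ℕ, p + 1 = 2 ^ k) ∧ 2 * Nat.card (Sylow p G) = 2 + (p + 3) * p) := by
  obtain ⟨l, hl, hl2⟩ := S4303.result (G := G) p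
  by_cases h1 : ∀ m ∈ l, m = 1
  · left
    refine ⟨2, 0, Nat.prime_two, ?_⟩
    rw [← hl, pow_zero]
    exact List.prod_eq_one h1
  · push Not at h1
    obtain ⟨m, hm, hm1⟩ := h1
    have hmod : m ≡ 1 [MOD p] := by
      rcases hl2 m hm with ⟨-, h3⟩ | ⟨S, _, _, _, h3⟩
      · have : 1 % p = 1 := Nat.mod_eq_of_lt hp.out.one_lt
        rw [Nat.ModEq, h3, this]
      · rw [h3]; exact card_sylow_modEq_one p S
    obtain ⟨t, ht⟩ : m ∣ Nat.card (Sylow p G) := by
      rw [← hl]; exact List.dvd_prod hm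
    have ht1 : t = 1 := one_factor hp.out hmod (by rw [← ht]; exact card_sylow_modEq_one p G) hm1
      (by rw [← ht]; exact hn)
    rw [ht1, mul_one] at ht
    rcases hl2 m hm with ⟨h3, -⟩ | ⟨S, _, _, hS, h3⟩
    · left
      obtain ⟨q, k, hq, -, hqk⟩ := (isPrimePow_nat_iff m).1 h3
      exact ⟨q, k, hq, by rw [ht, hqk]⟩
    · have hSn : ¬ (IsMulCommutative S ∨ ¬ p ∣ Nat.card S) := by
        intro h4
        exact hm1 (h3.trans (card_sylow_one_of_not h4))
      push Not at hSn
      obtain ⟨hSc, hSd⟩ := hSn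
      have hval := (val_of hSc (list_of T hK _ S hSc rfl hSd (by rw [← h3, ← ht]; exact hn))).2
      rw [← h3, ← ht] at hval
      set n := Nat.card (Sylow p G) with hnd
      rcases hval with ⟨h5, h⟩ | ⟨h5, h⟩ | ⟨h5, hk, h⟩ | ⟨h5, hk, h⟩
      · by_cases hk : ∃ k : ℕ, p + 1 = 2 ^ k
        · left
          obtain ⟨k, hk⟩ := hk
          exact ⟨2, k, Nat.prime_two, by rw [h, hk]⟩
        · exact Or.inr (Or.inr (Or.inl ⟨by omega, hk, by omega⟩))
      · exact Or.inr (Or.inl ⟨h5, h⟩)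
      · refine Or.inr (Or.inr (Or.inr (Or.inl ⟨by omega, hk, ?_⟩)))
        rw [h]
        obtain ⟨r, rfl⟩ : ∃ r, p = r + 5 := ⟨p - 5, by omega⟩
        rw [show r + 5 - 1 = r + 4 by omega, show r + 5 - 2 = r + 3 by omega,
          show r + 5 - 3 = r + 2 by omega]
        ring
      · refine Or.inr (Or.inr (Or.inr (Or.inr ⟨by omega, hk, ?_⟩)))
        rw [h]
        ring

theorem s4339 {G : Type u} [Group G] [Finite G] (hp' : ¬ (3 < p ∧ ∃ k : ℕ, p + 1 = 2 ^ k))
    (hn : Nat.card (Sylow p G) < p ^ 2) :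
    Cfsg.IsPSolvable p G ↔ ∃ q k : ℕ, q.Prime ∧ Nat.card (Sylow p G) = q ^ k := by
  constructor
  · intro h
    exact prime_pow_of_good hp.out (good_of_pSolvable p _ G h rfl) (card_sylow_modEq_one p G) hn
  · intro h
    by_contra hG
    obtain ⟨S, _, _, _, hSc, hSd, t, ht⟩ := exists_simple p _ G rfl hG
    have ht1 : t = 1 := one_factor hp.out (card_sylow_modEq_one p S)
      (by rw [← ht]; exact card_sylow_modEq_one p G) (card_sylow_ne_one hSc hSd)
      (by rw [← ht]; exact hn)
    rw [ht1, mul_one] at ht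
    have hval := (val_of hSc (list_of T hK _ S hSc rfl hSd (by rw [← ht]; exact hn))).2
    rw [← ht] at hval
    exact not_prime_pow hp.out hp' hval h

end

end Cfsg.Agent.H570.HallP
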