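import Mathlib
import Cfsg.Agent.Blocks.CyclicGroup

/-!
The linear bound `|N(P) : C(P)| ≤ N` for a projective representation of dimension `N`.
-/

set_option autoImplicit false

namespace Cfsg.Agent.H570.LinDim

open Subgroup Polynomial
open scoped commutatorElement

section matrix

variable {K : Type*} [Field K] [IsAlgClosed K] {ι : Type*} [Fintype ι] [DecidableEq ι]
variable {p : ℕ} [hp : Fact p.Prime]

omit hp in
theorem exists_eigenvalue (hchar : (p : K) ≠ 0) (M : Matrix ι ι K) (hM : M ^ p = 1)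
    (hM1 : M ≠ 1) : ∃ ω ∈ spectrum K M, ω ^ p = 1 ∧ ω ≠ 1 := by
  have hne : Nonempty ι := by
    by_contra h
    rw [not_nonempty_iff] at h
    exact hM1 (Subsingleton.elim _ _)
  have hnt : Nontrivial (Matrix ι ι K) := inferInstance
  let q : K[X] := ∑ i ∈ Finset.range p, X ^ i
  have hq : aeval M q = ∑ i ∈ Finset.range p, M ^ i := by simp [q]
  have h1 : (M - 1) * aeval M q = 0 := by
    rw [hq, mul_geom_sum, hM, sub_self]
  have h2 : (0 : K) ∈ spectrum K (aeval M q) := by
    rw [spectrum.zero_mem_iff]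
    intro hu
    apply hM1
    have h3 : M - 1 = 0 := (hu.mul_left_eq_zero).1 h1
    exact sub_eq_zero.1 h3
  have hne' : (spectrum K M).Nonempty := spectrum.nonempty_of_isAlgClosed_of_finiteDimensional K M
  rw [spectrum.map_polynomial_aeval_of_nonempty M q hne'] at h2
  obtain ⟨ω, hω, hω0⟩ := h2
  have h3 : ∑ i ∈ Finset.range p, ω ^ i = 0 := by
    have : eval ω q = ∑ i ∈ Finset.range p, ω ^ i := by simp [q, eval_finsetSum]
    rw [← this]; exact hω0
  refine ⟨ω, hω, ?_, ?_⟩
  · have h4 := mul_geom_sum ω p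
    rw [h3, mul_zero] at h4
    exact (sub_eq_zero.1 h4.symm)
  · rintro rfl
    apply hchar
    simpa using h3

theorem card_le (hchar : (p : K) ≠ 0) (x : GL ι K) (hx : x ^ p = 1) (hx1 : x ≠ 1)
    (A : Set (ZMod p)ˣ) (hA : ∀ h ∈ A, ∃ y : GL ι K, y * x * y⁻¹ = x ^ (h : ZMod p).val) :
    Nat.card A ≤ Fintype.card ι := by
  classical
  obtain ⟨ω, hω, hωp, hω1⟩ := exists_eigenvalue hchar (x : Matrix ι ι K)
    (by rw [← Units.val_pow_eq_pow_val, hx, Units.val_one])
    (by intro h; exact hx1 (Units.ext h))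
  have hord : orderOf ω = p := orderOf_eq_prime hωp hω1
  let R := (x : Matrix ι ι K).charpoly.roots.toFinset
  have hR : ∀ μ ∈ spectrum K (x : Matrix ι ι K), μ ∈ R := by
    intro μ hμ
    rw [Multiset.mem_toFinset, Polynomial.mem_roots (Matrix.charpoly_monic _).ne_zero]
    exact Matrix.mem_spectrum_iff_isRoot_charpoly.1 hμ
  have hcR : R.card ≤ Fintype.card ι := by
    refine (Multiset.toFinset_card_le _).trans ((Polynomial.card_roots' _).trans ?_)
    rw [Matrix.charpoly_natDegree_eq_dim]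
  have hspec : ∀ h ∈ A, ω ^ (h : ZMod p).val ∈ spectrum K (x : Matrix ι ι K) := by
    intro h hh
    obtain ⟨y, hy⟩ := hA h hh
    have h1 := spectrum.pow_mem_pow (x : Matrix ι ι K) (h : ZMod p).val hω
    have h2 : ((x : Matrix ι ι K)) ^ (h : ZMod p).val =
        (y : Matrix ι ι K) * (x : Matrix ι ι K) * ((y⁻¹ : GL ι K) : Matrix ι ι K) := by
      rw [← Units.val_pow_eq_pow_val, ← hy]; simp
    rw [h2] at h1
    rwa [spectrum.units_conjugate] at h1
  let f : A → R := fun h => ⟨ω ^ ((h : (ZMod p)ˣ) : ZMod p).val, hR _ (hspec h h.2)⟩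
  have hf : Function.Injective f := by
    intro h h' hh
    have h1 : ω ^ ((h : (ZMod p)ˣ) : ZMod p).val = ω ^ ((h' : (ZMod p)ˣ) : ZMod p).val :=
      congrArg Subtype.val hh
    have h2 := pow_injOn_Iio_orderOf (x := ω) (by
      rw [Set.mem_Iio, hord]; exact ZMod.val_lt _) (by
      rw [Set.mem_Iio, hord]; exact ZMod.val_lt _) h1
    exact Subtype.ext (Units.ext (ZMod.val_injective p h2))
  have h1 := Nat.card_le_card_of_injective f hf
  rw [Nat.card_eq_fintype_card (α := R), Fintype.card_coe] at h1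
  exact h1.trans hcR

end matrix

section field

variable {F : Type*} [Field F] {ι : Type*} [Fintype ι] [DecidableEq ι]
variable {p : ℕ} [hp : Fact p.Prime]

theorem card_le_field (hchar : (p : F) ≠ 0) (x : GL ι F) (hx : x ^ p = 1) (hx1 : x ≠ 1)
    (A : Set (ZMod p)ˣ) (hA : ∀ h ∈ A, ∃ y : GL ι F, y * x * y⁻¹ = x ^ (h : ZMod p).val) :
    Nat.card A ≤ Fintype.card ι := by
  let K := AlgebraicClosure F
  let φ : GL ι F →* GL ι K := Matrix.GeneralLinearGroup.map (algebraMap F K)
  have hinj : Function.Injective φ := by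
    intro a b hab
    apply Units.ext
    ext i j
    have := congrArg (fun z : GL ι K => (z : Matrix ι ι K) i j) hab
    simp only [φ, Matrix.GeneralLinearGroup.map_apply] at this
    exact (algebraMap F K).injective this
  refine card_le (K := K) (p := p) ?_ (φ x) ?_ ?_ A ?_
  · intro h
    apply hchar
    apply (algebraMap F K).injective
    rw [map_natCast, map_zero]; exact h
  · rw [← map_pow, hx, map_one]
  · intro h
    exact hx1 (hinj (by rw [h, map_one]))
  · intro h hh
    obtain ⟨y, hy⟩ := hA h hh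
    exact ⟨φ y, by rw [← map_inv, ← map_mul, ← map_mul, hy, map_pow]⟩

end field

section central

variable {Γ : Type*} [Group Γ] {G : Type*} [Group G]

/-- The commutator subgroup of a central extension of a perfect group is perfect. -/
theorem commutator_eq_top_of_central (hG : commutator G = ⊤) {π : Γ →* G}
    (hs : Function.Surjective π) (hc : π.ker ≤ Subgroup.center Γ) :
    commutator (commutator Γ) = ⊤ ∧ Function.Surjective (π.comp (commutator Γ).subtype) := by
  have hsurj : Function.Surjective (π.comp (commutator Γ).subtype) := by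
    intro g
    have hg : g ∈ commutator G := by rw [hG]; exact Subgroup.mem_top g
    have h1 : commutator G = (commutator Γ).map π := by
      rw [commutator_def, commutator_def, Subgroup.map_commutator,
        Subgroup.map_top_of_surjective _ hs]
    rw [h1] at hg
    obtain ⟨x, hx, rfl⟩ := hg
    exact ⟨⟨x, hx⟩, rfl⟩
  refine ⟨?_, hsurj⟩
  apply Subgroup.map_injective (commutator Γ).subtype_injective
  rw [← MonoidHom.range_eq_map, Subgroup.range_subtype]
  apply le_antisymm (Subgroup.map_subtype_le _)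
  conv_lhs => rw [commutator_def]
  rw [Subgroup.commutator_le]
  intro a _ b _
  obtain ⟨a₁, ha₁⟩ := hsurj (π a)
  obtain ⟨b₁, hb₁⟩ := hsurj (π b)
  have hconj : ∀ (x : Γ) (x₁ : commutator Γ), (π.comp (commutator Γ).subtype) x₁ = π x →
      ∀ g : Γ, x * g * x⁻¹ = (x₁ : Γ) * g * (x₁ : Γ)⁻¹ := by
    intro x x₁ hx g
    have hz : (x₁ : Γ)⁻¹ * x ∈ Subgroup.center Γ := by
      apply hc
      rw [MonoidHom.mem_ker, map_mul, map_inv]
      have : π (x₁ : Γ) = π x := hx
      rw [this, inv_mul_cancel]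
    have h2 := Subgroup.mem_center_iff.1 hz g
    have h3 : x * g * x⁻¹ = (x₁ : Γ) * (((x₁ : Γ)⁻¹ * x) * g) * ((x₁ : Γ)⁻¹ * x)⁻¹ * (x₁ : Γ)⁻¹ := by
      group
    rw [h3, ← h2]; group
  have h1 : a * b * a⁻¹ * b⁻¹ = (a₁ : Γ) * b₁ * (a₁ : Γ)⁻¹ * (b₁ : Γ)⁻¹ := by
    calc a * b * a⁻¹ * b⁻¹ = (a₁ : Γ) * b * (a₁ : Γ)⁻¹ * b⁻¹ := by rw [hconj a a₁ ha₁ b]
      _ = (a₁ : Γ) * (b * (a₁ : Γ)⁻¹ * b⁻¹) := by group
      _ = (a₁ : Γ) * ((b₁ : Γ) * (a₁ : Γ)⁻¹ * (b₁ : Γ)⁻¹) := by rw [hconj b b₁ hb₁]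
      _ = _ := by group
  rw [commutatorElement_def, h1]
  refine ⟨⁅a₁, b₁⁆, ?_, by simp [commutatorElement_def]⟩
  exact Subgroup.commutator_mem_commutator (Subgroup.mem_top _) (Subgroup.mem_top _)

variable {p : ℕ} [hp : Fact p.Prime]

open scoped IsMulCommutative in
/-- A central element in an abelian Sylow subgroup of a perfect group is trivial. -/
theorem eq_one_of_perfect [Finite Γ] (hΓ : commutator Γ = ⊤) (P : Sylow p Γ)
    (hcomm : IsMulCommutative P) (y : Γ) (hy : y ∈ (P : Subgroup Γ))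
    (hN : y ∈ Subgroup.center Γ) : y = 1 := by
  have hN' : ∀ g : Γ, g * y = y * g := fun g => Subgroup.mem_center_iff.1 hN g
  have key : ∀ (k : ℕ) (g₀ : Γ), g₀⁻¹ * y ^ k * g₀ ∈ (P : Subgroup Γ) →
      g₀⁻¹ * y ^ k * g₀ = y ^ k := by
    intro k g₀ _
    have h1 : Commute g₀ (y ^ k) := Commute.pow_right (hN' g₀) k
    rw [mul_assoc, ← h1.eq]; group
  have h1 := MonoidHom.transfer_eq_pow (MonoidHom.id (P : Subgroup Γ)) y key
  have h2 : MonoidHom.transfer (MonoidHom.id (P : Subgroup Γ)) y = 1 := by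
    have hker : commutator Γ ≤ (MonoidHom.transfer (MonoidHom.id (P : Subgroup Γ))).ker :=
      Abelianization.commutator_subset_ker _
    have : y ∈ (MonoidHom.transfer (MonoidHom.id (P : Subgroup Γ))).ker := by
      apply hker
      rw [hΓ]; exact Subgroup.mem_top y
    exact this
  rw [h2] at h1
  have h3 : y ^ (P : Subgroup Γ).index = 1 := (congrArg Subtype.val h1).symm
  obtain ⟨k, hk⟩ := P.isPGroup' ⟨y, hy⟩
  have h4 : y ^ p ^ k = 1 := congrArg Subtype.val hk
  rw [← orderOf_eq_one_iff]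
  apply Nat.eq_one_of_dvd_coprimes (a := p ^ k) (b := (P : Subgroup Γ).index)
  · apply Nat.Coprime.pow_left
    rw [(Fact.out : p.Prime).coprime_iff_not_dvd]
    exact P.not_dvd_index
  · rwa [orderOf_dvd_iff_pow_eq_one]
  · rwa [orderOf_dvd_iff_pow_eq_one]

/-- A perfect central extension of a group with Sylow `p`-subgroups of order `p` has kernel of
order prime to `p`. -/
theorem not_dvd_ker [Finite Γ] [Finite G] (hΓ : commutator Γ = ⊤) {π : Γ →* G}
    (hc : π.ker ≤ Subgroup.center Γ) (hs : Function.Surjective π)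
    (hord : ∀ P : Sylow p G, Nat.card P = p) : ¬ p ∣ Nat.card π.ker := by
  intro hd
  obtain ⟨y, hy⟩ := exists_prime_orderOf_dvd_card' p hd
  have hyo : orderOf (y : Γ) = p := by rw [Subgroup.orderOf_coe, hy]
  have hyc : (y : Γ) ∈ Subgroup.center Γ := hc y.2
  have h1 : IsPGroup p (Subgroup.zpowers (y : Γ)) := by
    refine IsPGroup.of_card (n := 1) ?_
    rw [Nat.card_zpowers, hyo, pow_one]
  obtain ⟨P, hP⟩ := h1.exists_le_sylow
  have hyP : (y : Γ) ∈ (P : Subgroup Γ) := hP (Subgroup.mem_zpowers _)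
  -- `P` is commutative
  let f : (P : Subgroup Γ) →* G := π.comp (P : Subgroup Γ).subtype
  have hrange : f.range = (P.mapSurjective hs : Subgroup G) := by
    rw [Sylow.coe_mapSurjective, MonoidHom.range_comp, Subgroup.range_subtype]
  have hcard : Nat.card f.range = p := by rw [hrange]; exact hord _
  have hcyc : IsCyclic f.range := isCyclic_of_prime_card hcard
  have hker : f.rangeRestrict.ker ≤ Subgroup.center (P : Subgroup Γ) := by
    rw [MonoidHom.ker_rangeRestrict]
    intro x hx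
    rw [Subgroup.mem_center_iff]
    intro g
    apply Subtype.ext
    have hx' : (x : Γ) ∈ π.ker := hx
    exact Subgroup.mem_center_iff.1 (hc hx') (g : Γ)
  have hcomm : IsMulCommutative (P : Subgroup Γ) :=
    f.rangeRestrict.isMulCommutative_of_isCyclic_of_ker_le_center hker
  have h2 := eq_one_of_perfect hΓ P hcomm (y : Γ) hyP hyc
  rw [h2, orderOf_one] at hyo
  exact hp.out.one_lt.ne hyo

/-- **The linear bound.** -/
theorem relIndex_le_dim [Finite Γ] [Finite G] (hG : commutator G = ⊤) {π : Γ →* G}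
    (hc : π.ker ≤ Subgroup.center Γ) (hs : Function.Surjective π)
    (hord : ∀ P : Sylow p G, Nat.card P = p) {F : Type*} [Field F] (hchar : (p : F) ≠ 0)
    {ι : Type*} [Fintype ι] [DecidableEq ι] (ρ : Γ →* GL ι F) (hρ : Function.Injective ρ)
    (P : Sylow p G) :
    (centralizer (P : Set G)).relIndex (normalizer (P : Set G)) ≤ Fintype.card ι := by
  obtain ⟨h1, hs1⟩ := commutator_eq_top_of_central hG hs hc
  set π₁ : commutator Γ →* G := π.comp (commutator Γ).subtype with hπ₁
  have hc1 : π₁.ker ≤ Subgroup.center (commutator Γ) := by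
    intro x hx
    rw [Subgroup.mem_center_iff]
    intro g
    apply Subtype.ext
    have hx' : (x : Γ) ∈ π.ker := hx
    exact Subgroup.mem_center_iff.1 (hc hx') (g : Γ)
  have hnd : ¬ p ∣ Nat.card π₁.ker := not_dvd_ker h1 hc1 hs1 hord
  -- a generator of `P`
  have hP : Nat.card (P : Subgroup G) = p := hord P
  have hcyc : IsCyclic (P : Subgroup G) := isCyclic_of_prime_card hP
  obtain ⟨z, hz⟩ : ∃ z : G, zpowers z = (P : Subgroup G) := by
    obtain ⟨g, hg⟩ := hcyc.exists_generator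
    refine ⟨g, le_antisymm ?_ ?_⟩
    · rw [zpowers_le]; exact g.2
    · intro y hy
      obtain ⟨j, hj⟩ := mem_zpowers_iff.1 (hg ⟨y, hy⟩)
      exact mem_zpowers_iff.2 ⟨j, congrArg Subtype.val hj⟩
  have hzo : orderOf z = p := by rw [← Nat.card_zpowers, hz, hP]
  have hzp : z ^ p = 1 := by rw [← hzo, pow_orderOf_eq_one]
  -- a lift of order `p`
  set m := Nat.card π₁.ker with hm
  have hkm : ∀ y ∈ π₁.ker, y ^ m = 1 := by
    intro y hy
    have h2 : (⟨y, hy⟩ : π₁.ker) ^ m = 1 := pow_card_eq_one'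
    exact congrArg Subtype.val h2
  have hcop : p.Coprime m := (hp.out.coprime_iff_not_dvd).2 hnd
  obtain ⟨x, hx, hxp⟩ : ∃ x : commutator Γ, π₁ x = z ∧ x ^ p = 1 := by
    obtain ⟨w, hw⟩ := hs1 z
    obtain ⟨j, hj1, hj2⟩ := Nat.chineseRemainder hcop 1 0
    refine ⟨w ^ j, ?_, ?_⟩
    · rw [map_pow, hw]
      have h2 : j % orderOf z = 1 % orderOf z := by rw [hzo]; exact hj1
      rw [← pow_mod_orderOf, h2, pow_mod_orderOf, pow_one]
    · obtain ⟨i, hi⟩ := (Nat.modEq_zero_iff_dvd).1 hj2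
      have h2 : w ^ p ∈ π₁.ker := by
        rw [MonoidHom.mem_ker, map_pow, hw, hzp]
      rw [← pow_mul, mul_comm, pow_mul, hi, pow_mul, hkm _ h2, one_pow]
  change (centralizer ((P : Subgroup G) : Set G)).relIndex
    (normalizer ((P : Subgroup G) : Set G)) ≤ Fintype.card ι
  rw [← Cfsg.Agent.Blocks.CyclicGroup.card_fuse hzo (P : Subgroup G) hz]
  refine card_le_field (F := F) (ι := ι) hchar (ρ x) (by
    rw [← map_pow]
    have : ((x : commutator Γ) : Γ) ^ p = 1 := by
      have := congrArg Subtype.val hxp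
      simpa using this
    rw [this, map_one]) ?_ _ ?_
  · intro h
    have h2 : (x : Γ) = 1 := hρ (by rw [h, map_one])
    have h3 : z = 1 := by
      rw [← hx]
      change π (x : Γ) = 1
      rw [h2, map_one]
    rw [h3, orderOf_one] at hzo
    exact hp.out.one_lt.ne hzo
  · intro h hh
    have h2 : IsConj z (Cfsg.Agent.Blocks.CyclicGroup.u z (h : ZMod p)) := hh
    obtain ⟨g, hg⟩ := isConj_iff.1 h2
    obtain ⟨y, hy⟩ := hs1 g
    -- `y x y⁻¹ = x ^ h`
    have h3 : (x ^ (h : ZMod p).val)⁻¹ * (y * x * y⁻¹) ∈ π₁.ker := by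
      rw [MonoidHom.mem_ker, map_mul, map_inv, map_pow, map_mul, map_mul, map_inv, hx, hy, hg]
      change (z ^ (h : ZMod p).val)⁻¹ * (z ^ (h : ZMod p).val) = 1
      rw [inv_mul_cancel]
    have h4 := Subgroup.mem_center_iff.1 (hc1 h3)
    set c := (x ^ (h : ZMod p).val)⁻¹ * (y * x * y⁻¹) with hcdef
    have h5 : y * x * y⁻¹ = x ^ (h : ZMod p).val * c := by rw [hcdef]; group
    have h6 : c ^ p = 1 := by
      have h7 : (y * x * y⁻¹) ^ p = 1 := by rw [conj_pow, hxp, mul_one, mul_inv_cancel]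
      rw [h5] at h7
      have h8 : Commute (x ^ (h : ZMod p).val) c := h4 _
      rw [h8.mul_pow, ← pow_mul, mul_comm, pow_mul, hxp, one_pow, one_mul] at h7
      exact h7
    have h7 : c = 1 := by
      rw [← orderOf_eq_one_iff]
      exact Nat.eq_one_of_dvd_coprimes hcop (orderOf_dvd_of_pow_eq_one h6)
        (orderOf_dvd_of_pow_eq_one (hkm c h3))
    rw [h7, mul_one] at h5
    refine ⟨ρ y, ?_⟩
    have h8 := congrArg Subtype.val h5
    rw [← map_inv, ← map_mul, ← map_mul, ← map_pow]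
    congr 1

end central

end Cfsg.Agent.H570.LinDim
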