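import Cfsg.Agent.H570.PartA

/-!
The number of Sylow `p`-subgroups of simple groups with certain orders.
-/

set_option autoImplicit false

namespace Cfsg.Agent.H570.Numbers

open Subgroup Cfsg.Agent.SmallSimple Cfsg.Agent.H570.Arith

/-- The orders of the simple groups with less than `p ^ 2` Sylow `p`-subgroups. -/
def OrdList (p o : ℕ) : Prop :=
  2 * o = p * (p ^ 2 - 1) ∨ (p = 13 ∧ o = 5616) ∨ o = p * (p - 1) * (p - 2) ∨
    o = p * (p + 1) * (p + 2)

variable {S : Type*} [Group S] [Finite S] [IsSimpleGroup S]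

/-- Local data in the form used below. -/
theorem exists_data (hS : ¬ IsMulCommutative S) {p : ℕ} [hp : Fact p.Prime]
    (h1 : p ∣ Nat.card S) (h2 : ¬ p ^ 2 ∣ Nat.card S) :
    ∃ e κ : ℕ, 2 ≤ e ∧ e ∣ p - 1 ∧ 0 < κ ∧
      Nat.card S = Nat.card (Sylow p S) * (p * (e * κ)) ∧
      p + 1 ≤ Nat.card (Sylow p S) ∧ Nat.card (Sylow p S) ≡ 1 [MOD p] ∧
      (Nat.card (Sylow p S) < p ^ 2 → p ≠ 2 → κ ≠ 1 →
        17 ≤ p ∧ ∃ a b k, Nat.card (Sylow p S) = 1 + k * p ∧ AB p k a b ∧ 3 ≤ a ∧ b ∣ e) := by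
  obtain ⟨P⟩ : Nonempty (Sylow p S) := inferInstance
  have hP : Nat.card P = p := PrimeLocal.card_of_not_sq_dvd h1 h2 P
  obtain ⟨e, K, hloc⟩ := PrimeLocal.exists_local hS h1 h2 P
  have hq5 : 5 ≤ Nat.card (Sylow p S) := Embed.five_le_card_sylow hS h1
  have hmod := card_sylow_modEq_one p S
  have h3 : p ∣ Nat.card (Sylow p S) - 1 := (Nat.modEq_iff_dvd' (by omega)).1 hmod.symm
  have h4 := Nat.le_of_dvd (by omega) h3
  refine ⟨e, Nat.card K, hloc.one_lt, hloc.dvd_pred, Nat.card_pos, ?_, by omega, hmod, ?_⟩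
  · rw [hloc.card_eq]; ring
  · intro hn hp2 hK
    obtain ⟨k, hk⟩ := h3
    have hk' : Nat.card (Sylow p S) = 1 + k * p := by
      rw [mul_comm k p, ← hk]; omega
    have hkp : k < p := by
      by_contra hcon
      push Not at hcon
      have : p * p ≤ k * p := Nat.mul_le_mul_right _ hcon
      have h5 : p ^ 2 = p * p := sq p
      omega
    obtain ⟨h5, a, b, h6, h7, h8⟩ := PartA.partA hS hp2 hP hloc hk' hkp hK
    exact ⟨h5, a, b, k, hk', h6, h7, h8⟩

theorem card_a (hS : ¬ IsMulCommutative S) {p : ℕ} [hp : Fact p.Prime] (hp5 : 5 ≤ p)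
    (ho : 2 * Nat.card S = p * (p ^ 2 - 1)) : Nat.card (Sylow p S) = p + 1 := by
  have hpp := hp.out
  obtain ⟨r, rfl⟩ : ∃ r, p = r + 1 := ⟨p - 1, by omega⟩
  have e0 : (r + 1) ^ 2 - 1 = r * (r + 2) := by
    have : (r + 1) ^ 2 = r * (r + 2) + 1 := by ring
    omega
  rw [e0] at ho
  have hcop1 : ¬ (r + 1) ∣ r * (r + 2) := by
    intro h
    have h1 : (r + 1) ∣ r * (r + 2) + 1 := by
      have : r * (r + 2) + 1 = (r + 1) * (r + 1) := by ring
      rw [this]; exact Dvd.intro _ rfl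
    have h2 := (Nat.dvd_add_right h).1 h1
    exact hpp.one_lt.ne' (Nat.dvd_one.1 h2)
  have h1 : (r + 1) ∣ Nat.card S := by
    have h2 : (r + 1) ∣ 2 * Nat.card S := ho ▸ Dvd.intro _ rfl
    refine (hpp.dvd_mul.1 h2).resolve_left fun h => ?_
    have := Nat.le_of_dvd (by norm_num) h
    omega
  have h2 : ¬ (r + 1) ^ 2 ∣ Nat.card S := by
    intro h
    apply hcop1
    have h3 : (r + 1) ^ 2 ∣ (r + 1) * (r * (r + 2)) := ho ▸ h.mul_left 2
    rw [sq] at h3
    exact Nat.dvd_of_mul_dvd_mul_left (Nat.succ_pos r) h3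
  obtain ⟨e, κ, he2, hed, hκ, hcard, hn1, hmod, -⟩ := exists_data hS h1 h2
  set n := Nat.card (Sylow (r + 1) S) with hn
  rw [hcard] at ho
  have h3 : n * (2 * (e * κ)) = r * (r + 2) := by
    apply Nat.eq_of_mul_eq_mul_left (show 0 < r + 1 by omega)
    rw [← ho]; ring
  -- `2 e κ ≡ -1`
  have h4 : (r + 1) ∣ 2 * (e * κ) + 1 := by
    obtain ⟨j, hj⟩ := (Nat.modEq_iff_dvd' (show 1 ≤ n by omega)).1 hmod.symm
    have hj' : n = (r + 1) * j + 1 := by omega
    have h5 : (r + 1) ∣ n * (2 * (e * κ)) + 1 := by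
      rw [h3]
      exact ⟨r + 1, by ring⟩
    have h6 : n * (2 * (e * κ)) + 1 = (r + 1) * (j * (2 * (e * κ))) + (2 * (e * κ) + 1) := by
      rw [hj']; ring
    rw [h6] at h5
    exact (Nat.dvd_add_right (Dvd.intro _ rfl)).1 h5
  obtain ⟨c, hc⟩ := h4
  have hc0 : 0 < c := by
    rcases Nat.eq_zero_or_pos c with h | h
    · rw [h, mul_zero] at hc; omega
    · exact h
  -- `2 e κ ≤ r`
  have h5 : 2 * (e * κ) ≤ r := by
    by_contra hcon
    push Not at hcon
    have : (r + 2) * (r + 1) ≤ n * (2 * (e * κ)) := Nat.mul_le_mul hn1 hcon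
    nlinarith
  have h6 : c = 1 := by
    by_contra hne
    have : (r + 1) * 2 ≤ (r + 1) * c := Nat.mul_le_mul_left _ (by omega)
    omega
  rw [h6, mul_one] at hc
  have h7 : 2 * (e * κ) = r := by omega
  rw [h7] at h3
  have h8 : n = r + 2 := Nat.eq_of_mul_eq_mul_left (show 0 < r by omega) (by rw [← h3]; ring)
  omega

/-- Common part: `n * c = m` with `m ≡ 2`, `c ≥ 2`. -/
theorem aux_two {p n c m : ℕ} (hn : n ≡ 1 [MOD p]) (hm : m ≡ 2 [MOD p]) (h : n * c = m) :
    c ≡ 2 [MOD p] := by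
  have h1 : n * c ≡ 1 * c [MOD p] := hn.mul_right c
  rw [h, one_mul] at h1
  exact h1.symm.trans hm

theorem card_b (hS : ¬ IsMulCommutative S) {p : ℕ} [hp : Fact p.Prime] (hp5 : 5 ≤ p)
    (ho : Nat.card S = p * (p - 1) * (p - 2)) :
    2 * Nat.card (Sylow p S) = (p - 1) * (p - 2) := by
  have hpp := hp.out
  obtain ⟨r, rfl⟩ : ∃ r, p = r + 2 := ⟨p - 2, by omega⟩
  rw [show r + 2 - 1 = r + 1 by omega, show r + 2 - 2 = r by omega, mul_assoc] at ho
  rw [show r + 2 - 1 = r + 1 by omega, show r + 2 - 2 = r by omega]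
  have hm : (r + 1) * r ≡ 2 [MOD (r + 2)] := by
    rcases Nat.lt_or_ge ((r + 1) * r) 2 with h | h
    · have : r = 0 ∨ r = 1 := by
        rcases Nat.lt_or_ge r 2 with h' | h'
        · omega
        · have : 3 * 2 ≤ (r + 1) * r := Nat.mul_le_mul (by omega) h'
          omega
      omega
    · symm
      rw [Nat.modEq_iff_dvd' h]
      refine ⟨r - 1, ?_⟩
      obtain ⟨x, rfl⟩ : ∃ x, r = x + 1 := ⟨r - 1, by omega⟩
      rw [Nat.add_sub_cancel]
      have : (x + 1 + 1) * (x + 1) = (x + 1 + 2) * x + 2 := by ring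
      omega
  have hnd : ¬ (r + 2) ∣ (r + 1) * r := by
    intro h
    have h1 : (r + 1) * r ≡ 0 [MOD (r + 2)] := (Nat.modEq_zero_iff_dvd).2 h
    have h2 := hm.symm.trans h1
    have h3 := Nat.le_of_dvd (by norm_num) ((Nat.modEq_zero_iff_dvd).1 h2)
    omega
  have h1 : (r + 2) ∣ Nat.card S := ho ▸ Dvd.intro _ rfl
  have h2 : ¬ (r + 2) ^ 2 ∣ Nat.card S := by
    intro h
    apply hnd
    rw [ho, sq] at h
    exact Nat.dvd_of_mul_dvd_mul_left (by omega) h
  obtain ⟨e, κ, he2, hed, hκ, hcard, hn1, hmod, -⟩ := exists_data hS h1 h2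
  set n := Nat.card (Sylow (r + 2) S) with hn
  rw [hcard] at ho
  have h3 : n * (e * κ) = (r + 1) * r := by
    apply Nat.eq_of_mul_eq_mul_left (show 0 < r + 2 by omega)
    rw [← ho]; ring
  have h4 := aux_two hmod hm h3
  have h5 : e * κ < r + 2 := by
    by_contra hcon
    push Not at hcon
    have : (r + 3) * (r + 2) ≤ n * (e * κ) := Nat.mul_le_mul hn1 hcon
    nlinarith
  have h6 : e * κ = 2 := Nat.ModEq.eq_of_lt_of_lt h4 h5 (by omega)
  rw [h6] at h3
  omega

theorem card_c (hS : ¬ IsMulCommutative S) {p : ℕ} [hp : Fact p.Prime] (hp5 : 5 ≤ p)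
    (ho : Nat.card S = p * (p + 1) * (p + 2)) :
    2 * Nat.card (Sylow p S) = (p + 1) * (p + 2) := by
  have hpp := hp.out
  rw [mul_assoc] at ho
  have hm : (p + 1) * (p + 2) ≡ 2 [MOD p] := by
    have : (p + 1) * (p + 2) = 2 + p * (p + 3) := by ring
    rw [this]
    simp [Nat.ModEq]
  have hnd : ¬ p ∣ (p + 1) * (p + 2) := by
    intro h
    have h1 : (p + 1) * (p + 2) ≡ 0 [MOD p] := (Nat.modEq_zero_iff_dvd).2 h
    have h2 := hm.symm.trans h1
    have h3 := Nat.le_of_dvd (by norm_num) ((Nat.modEq_zero_iff_dvd).1 h2)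
    omega
  have h1 : p ∣ Nat.card S := ho ▸ Dvd.intro _ rfl
  have h2 : ¬ p ^ 2 ∣ Nat.card S := by
    intro h
    apply hnd
    rw [ho, sq] at h
    exact Nat.dvd_of_mul_dvd_mul_left (by omega) h
  obtain ⟨e, κ, he2, hed, hκ, hcard, hn1, hmod, hA⟩ := exists_data hS h1 h2
  set n := Nat.card (Sylow p S) with hn
  rw [hcard] at ho
  have h3 : n * (e * κ) = (p + 1) * (p + 2) := by
    apply Nat.eq_of_mul_eq_mul_left hpp.pos
    rw [← ho]; ring
  have h4 := aux_two hmod hm h3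
  have h5 : e * κ ≤ p + 2 := by
    by_contra hcon
    push Not at hcon
    have : (p + 1) * (p + 3) ≤ n * (e * κ) := Nat.mul_le_mul hn1 hcon
    nlinarith
  have hek : 2 ≤ e * κ := by nlinarith
  have hep : e ≤ p - 1 := Nat.le_of_dvd (by omega) hed
  have h6 : e * κ = 2 ∨ e * κ = p + 2 := by
    obtain ⟨c, hc⟩ := (Nat.modEq_iff_dvd' hek).1 h4.symm
    rcases Nat.lt_or_ge c 2 with h | h
    · interval_cases c
      · left; omega
      · right; omega
    · exfalso
      have : p * 2 ≤ p * c := Nat.mul_le_mul_left _ h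
      omega
  rcases h6 with h6 | h6
  · rw [h6] at h3
    omega
  · exfalso
    have hκ1 : κ ≠ 1 := by
      rintro rfl
      omega
    have hn' : n = p + 1 := by
      rw [h6] at h3
      exact Nat.eq_of_mul_eq_mul_right (show 0 < p + 2 by omega) h3
    obtain ⟨-, a, b, k, hk, hab, ha3, hbe⟩ := hA (by rw [hn']; nlinarith) (by omega) hκ1
    -- `e` divides `3`
    have he3 : e ∣ 3 := by
      have h7 : e ∣ p + 2 := h6 ▸ Dvd.intro _ rfl
      have h8 : p + 2 = (p - 1) + 3 := by omega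
      rw [h8] at h7
      exact (Nat.dvd_add_right hed).1 h7
    have hb3 : b ≤ 3 := Nat.le_of_dvd (by norm_num) (hbe.trans he3)
    have hb := hab.le
    have hab' := hab.mul
    have ha' : a = 3 := by omega
    have hb' : b = 3 := by omega
    rw [ha', hb'] at hab'
    have : p = 10 := by omega
    rw [this] at hpp
    revert hpp; norm_num

theorem card_d (hS : ¬ IsMulCommutative S) [Fact (Nat.Prime 13)]
    (ho : Nat.card S = 5616) : Nat.card (Sylow 13 S) = 144 := by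
  obtain ⟨e, κ, he2, hed, hκ, hcard, hn1, hmod, hA⟩ :=
    exists_data hS (p := 13) (by rw [ho]; norm_num) (by rw [ho]; norm_num)
  set n := Nat.card (Sylow 13 S) with hn
  rw [ho] at hcard
  have h3 : n * (e * κ) = 432 := by
    have : n * (13 * (e * κ)) = 13 * (n * (e * κ)) := by ring
    omega
  have hn216 : n ≤ 216 := by
    have hek : 2 ≤ e * κ := by nlinarith
    have : n * 2 ≤ n * (e * κ) := Nat.mul_le_mul_left _ hek
    omega
  have hnd : n ∣ 432 := Dvd.intro _ h3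
  have hmod' : n % 13 = 1 := hmod
  have hκ1 : n < 169 → κ = 1 := by
    intro hlt
    by_contra hne
    obtain ⟨h17, -⟩ := hA (by simpa using hlt) (by norm_num) hne
    omega
  have he12 : e ≤ 12 := Nat.le_of_dvd (by norm_num) hed
  clear hA
  have key : n = 27 ∨ n = 144 := by
    clear_value n
    interval_cases n <;> first | omega | (exfalso; revert hnd; decide)
  rcases key with h | h
  · exfalso
    have h5 := hκ1 (by omega)
    rw [h, h5] at h3
    omega
  · exact h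

end Cfsg.Agent.H570.Numbers
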