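import Cfsg.Agent.Classification.QDW.FuCop
import Cfsg.Agent.H571.SylowNumber

/-!
Groups with a normal `p`-complement and Sylow `p`-subgroups of order `p`: the number of Sylow
`p`-subgroups of a subgroup divides that of the group.
-/

set_option autoImplicit false

namespace Cfsg.Agent.H570.PNil

open Subgroup Cfsg.Agent.Classification.QDW.FuCop Cfsg.Agent.H571.SylowNumber

section coprime

variable {G : Type*} [Group G] [Finite G] {p : ℕ} [Fact p.Prime] {D X X₁ : Subgroup G}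

omit [Finite G] in
theorem card_mul_relIndex {A B : Subgroup G} (h : A ≤ B) :
    Nat.card A * A.relIndex B = Nat.card B := by
  rw [← Subgroup.relIndex_bot_left, ← Subgroup.relIndex_bot_left]
  exact Subgroup.relIndex_mul_relIndex _ _ _ bot_le h

theorem relIndex_ne_zero (A B : Subgroup G) : A.relIndex B ≠ 0 := by
  have h := card_mul_relIndex (G := G) (inf_le_right : A ⊓ B ≤ B)
  rw [Subgroup.inf_relIndex_right] at h
  intro h0
  rw [h0, mul_zero] at h
  exact absurd h.symm Nat.card_pos.ne'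

/-- The `r`-part of `|X : C_X(D)|`. -/
theorem exists_part (hD : IsPGroup p D) (hX : ¬ p ∣ Nat.card X)
    (hDX : ∀ b ∈ D, ∀ u ∈ X, b * u * b⁻¹ ∈ X) {r : ℕ} [Fact r.Prime] {R : Subgroup G}
    (hRX : R ≤ X) (hR : IsPGroup r R) (hRi : ¬ r ∣ R.relIndex X)
    (hDR : ∀ b ∈ D, ∀ u ∈ R, b * u * b⁻¹ ∈ R) :
    r ^ ((centralizer (D : Set G)).relIndex X).factorization r =
      (centralizer (D : Set G)).relIndex R := by
  have hr : r.Prime := Fact.out
  set C := centralizer (D : Set G) with hC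
  obtain ⟨-, h2⟩ := centralizer_sylow hD hX hDX hRX hR hRi hDR
  rw [← hC] at h2
  have e1 : Nat.card R * R.relIndex X = Nat.card X := card_mul_relIndex hRX
  have e2 : Nat.card (R ⊓ C : Subgroup G) * (R ⊓ C).relIndex (X ⊓ C) =
      Nat.card (X ⊓ C : Subgroup G) := card_mul_relIndex (inf_le_inf_right _ hRX)
  have e3 : Nat.card (X ⊓ C : Subgroup G) * C.relIndex X = Nat.card X := by
    have h := card_mul_relIndex (G := G) (inf_le_left : X ⊓ C ≤ X)
    rwa [Subgroup.inf_relIndex_left] at h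
  have e4 : Nat.card (R ⊓ C : Subgroup G) * C.relIndex R = Nat.card R := by
    have h := card_mul_relIndex (G := G) (inf_le_left : R ⊓ C ≤ R)
    rwa [Subgroup.inf_relIndex_left] at h
  have f : ∀ {a b c : ℕ}, a * b = c → a ≠ 0 → b ≠ 0 →
      c.factorization r = a.factorization r + b.factorization r := by
    rintro a b c rfl ha hb
    rw [Nat.factorization_mul ha hb, Finsupp.add_apply]
  have n1 := f e1 Nat.card_pos.ne' (relIndex_ne_zero _ _)
  have n2 := f e2 Nat.card_pos.ne' (relIndex_ne_zero _ _)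
  have n3 := f e3 Nat.card_pos.ne' (relIndex_ne_zero _ _)
  have n4 := f e4 Nat.card_pos.ne' (relIndex_ne_zero _ _)
  rw [Nat.factorization_eq_zero_of_not_dvd hRi] at n1
  rw [Nat.factorization_eq_zero_of_not_dvd h2] at n2
  have h5 : (C.relIndex X).factorization r = (C.relIndex R).factorization r := by omega
  rw [h5]
  obtain ⟨k, hk⟩ := (IsPGroup.iff_card).1 hR
  have h6 : C.relIndex R ∣ r ^ k := by rw [← hk, ← e4]; exact Dvd.intro_left _ rfl
  obtain ⟨j, -, hj⟩ := (Nat.dvd_prime_pow hr).1 h6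
  rw [hj, hr.factorization_pow, Finsupp.single_eq_same]

/-- If `D` is a `p`-group acting on the `p'`-group `X` and `X₁ ≤ X` is `D`-invariant, then
`|X₁ : C_{X₁}(D)|` divides `|X : C_X(D)|`. -/
theorem relIndex_centralizer_dvd (hD : IsPGroup p D) (hX : ¬ p ∣ Nat.card X)
    (hDX : ∀ b ∈ D, ∀ u ∈ X, b * u * b⁻¹ ∈ X) (hX₁ : X₁ ≤ X)
    (hDX₁ : ∀ b ∈ D, ∀ u ∈ X₁, b * u * b⁻¹ ∈ X₁) :
    (centralizer (D : Set G)).relIndex X₁ ∣ (centralizer (D : Set G)).relIndex X := by
  have hX₁' : ¬ p ∣ Nat.card X₁ := fun h => hX (h.trans (Subgroup.card_dvd_of_le hX₁))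
  rw [← Nat.factorization_prime_le_iff_dvd (relIndex_ne_zero _ _) (relIndex_ne_zero _ _)]
  intro r hr
  have : Fact r.Prime := ⟨hr⟩
  obtain ⟨R₁, hR₁X, hR₁, hR₁i, hDR₁⟩ := exists_inv hD hX₁' hDX₁ r
  obtain ⟨R, hRX, hR, hRi, hDR, hR₁R⟩ := exists_inv_ge hD hX hDX (hR₁X.trans hX₁) hR₁ hDR₁
  have h1 := exists_part hD hX₁' hDX₁ hR₁X hR₁ hR₁i hDR₁
  have h2 := exists_part hD hX hDX hRX hR hRi hDR
  have h3 := Subgroup.relIndex_le_of_le_right hR₁R (relIndex_ne_zero (centralizer (D : Set G)) R)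
  rw [← h1, ← h2] at h3
  exact (Nat.pow_le_pow_iff_right hr.one_lt).1 h3

end coprime

section pnil

/-- `T` has a normal `p`-complement of index `p`. -/
def IsPNil (p : ℕ) (T : Type*) [Group T] : Prop :=
  ∃ M : Subgroup T, M.Normal ∧ ¬ p ∣ Nat.card M ∧ M.index = p

variable {T : Type*} [Group T] [Finite T] {p : ℕ} [hp : Fact p.Prime]

theorem sup_eq_top {M : Subgroup T} (_ : M.Normal) (hMp : ¬ p ∣ Nat.card M) (hMi : M.index = p)
    {P : Subgroup T} (hP : Nat.card P = p) : P ⊔ M = ⊤ ∧ Disjoint P M := by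
  have h1 : (Nat.card P).Coprime (Nat.card M) := by
    rw [hP]; exact (hp.out.coprime_iff_not_dvd).2 hMp
  have h2 : Nat.card P * Nat.card M = Nat.card T := by
    rw [hP, mul_comm, ← hMi, Subgroup.card_mul_index]
  have h3 := Subgroup.isComplement'_of_coprime h2 h1
  exact ⟨h3.sup_eq_top, h3.disjoint⟩

theorem card_eq {M : Subgroup T} (hM : M.Normal) (hMp : ¬ p ∣ Nat.card M) (hMi : M.index = p)
    {P : Subgroup T} (hP : Nat.card P = p) {X : Subgroup T} (hX : P ≤ X) :
    Nat.card X = p * Nat.card (M ⊓ X : Subgroup T) := by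
  obtain ⟨h1, -⟩ := sup_eq_top hM hMp hMi hP
  have h2 : X ⊔ M = ⊤ := top_le_iff.1 (h1 ▸ sup_le_sup_right hX M)
  have h3 : M.relIndex X = p := by
    rw [← Subgroup.relIndex_sup_right X M, h2, Subgroup.relIndex_top_right, hMi]
  have h4 := card_mul_relIndex (G := T) (inf_le_right : M ⊓ X ≤ X)
  rw [Subgroup.inf_relIndex_right, h3] at h4
  rw [← h4, mul_comm]

/-- The number of Sylow `p`-subgroups of `L` is `|M ∩ L : C_{M ∩ L}(P)|`. -/
theorem card_sylow_eq {M : Subgroup T} (hM : M.Normal) (hMp : ¬ p ∣ Nat.card M)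
    (hMi : M.index = p) (P : Sylow p T) (hP : Nat.card P = p) {L : Subgroup T}
    (hL : (P : Subgroup T) ≤ L) :
    Nat.card (Sylow p L) = (centralizer (P : Set T)).relIndex (M ⊓ L) := by
  have hP' : Nat.card (P : Subgroup T) = p := hP
  obtain ⟨-, hdis⟩ := sup_eq_top hM hMp hMi hP'
  rw [card_sylow_eq_relIndex P L hL]
  set N := normalizer ((P : Subgroup T) : Set T) with hN
  have hPN : (P : Subgroup T) ≤ N := Subgroup.le_normalizer
  -- `N.relIndex L = N.relIndex (M ⊓ L)`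
  have h1 := card_eq hM hMp hMi hP' hL
  have h2 := card_eq hM hMp hMi hP' (le_inf hPN hL)
  have h3 := card_mul_relIndex (G := T) (inf_le_right : N ⊓ L ≤ L)
  rw [Subgroup.inf_relIndex_right] at h3
  have h4 := card_mul_relIndex (G := T) (inf_le_right : N ⊓ (M ⊓ L) ≤ M ⊓ L)
  rw [Subgroup.inf_relIndex_right] at h4
  have h5 : M ⊓ (N ⊓ L) = N ⊓ (M ⊓ L) := by
    rw [← inf_assoc, ← inf_assoc, inf_comm M N]
  rw [h5] at h2
  have h6 : N.relIndex L = N.relIndex (M ⊓ L) := by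
    have h7 : 0 < p * Nat.card (N ⊓ (M ⊓ L) : Subgroup T) :=
      Nat.mul_pos hp.out.pos Nat.card_pos
    apply Nat.eq_of_mul_eq_mul_left h7
    rw [← h2, h3, h2, mul_assoc, h4, h1]
  rw [h6]
  -- `N ⊓ (M ⊓ L) = C ⊓ (M ⊓ L)`
  rw [← Subgroup.inf_relIndex_right N, ← Subgroup.inf_relIndex_right (centralizer (P : Set T))]
  congr 1
  ext x
  rw [mem_inf, mem_inf]
  constructor
  · rintro ⟨hxN, hx⟩
    refine ⟨?_, hx⟩
    refine mem_centralizer_iff.2 fun y hy => ?_
    have h8 : x * y * x⁻¹ * y⁻¹ ∈ (P : Subgroup T) :=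
      mul_mem ((mem_normalizer_iff.1 hxN y).1 hy) (inv_mem hy)
    have h9 : x * y * x⁻¹ * y⁻¹ ∈ M := by
      have : x * y * x⁻¹ * y⁻¹ = x * (y * x⁻¹ * y⁻¹) := by group
      rw [this]
      exact mul_mem hx.1 (hM.conj_mem _ (inv_mem hx.1) y)
    have h10 := Subgroup.disjoint_def.1 hdis h8 h9
    have h11 : x * y = y * x := by
      have h12 := mul_eq_one_iff_eq_inv.1 h10
      rw [inv_inv] at h12
      exact mul_inv_eq_iff_eq_mul.1 h12
    exact h11.symm
  · rintro ⟨hxC, hx⟩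
    refine ⟨?_, hx⟩
    exact Subgroup.centralizer_le_normalizer _ hxC

/-- The number of Sylow subgroups of a subgroup divides the number for the group. -/
theorem card_sylow_dvd (h : IsPNil p T) (P : Sylow p T) (hP : Nat.card P = p) {L : Subgroup T}
    (hL : (P : Subgroup T) ≤ L) : Nat.card (Sylow p L) ∣ Nat.card (Sylow p T) := by
  obtain ⟨M, hM, hMp, hMi⟩ := h
  have h1 := card_sylow_eq hM hMp hMi P hP hL
  have h2 := card_sylow_eq hM hMp hMi P hP (L := ⊤) le_top
  rw [inf_top_eq] at h2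
  have h3 : Nat.card (Sylow p (⊤ : Subgroup T)) = Nat.card (Sylow p T) :=
    card_sylow_congr Subgroup.topEquiv
  rw [← h3, h1, h2]
  refine relIndex_centralizer_dvd (p := p) P.isPGroup' hMp ?_ inf_le_left ?_
  · intro b _ u hu
    exact hM.conj_mem u hu b
  · intro b hb u hu
    exact mem_inf.2 ⟨hM.conj_mem u hu.1 b, mul_mem (mul_mem (hL hb) hu.2) (inv_mem (hL hb))⟩

/-- Heredity. -/
theorem IsPNil.subgroup (h : IsPNil p T) (P : Sylow p T) (hP : Nat.card P = p) {L : Subgroup T}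
    (hL : (P : Subgroup T) ≤ L) : IsPNil p L := by
  obtain ⟨M, hM, hMp, hMi⟩ := h
  refine ⟨M.subgroupOf L, inferInstance, ?_, ?_⟩
  · intro hd
    apply hMp
    refine hd.trans ?_
    have h1 : Nat.card (M.subgroupOf L) = Nat.card (M ⊓ L : Subgroup T) := by
      rw [← Subgroup.inf_subgroupOf_right]
      exact Nat.card_congr (Subgroup.subgroupOfEquivOfLe inf_le_right).toEquiv
    rw [h1]
    exact Subgroup.card_dvd_of_le inf_le_left
  · have h1 := card_eq hM hMp hMi (P := (P : Subgroup T)) hP hL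
    have h4 := card_mul_relIndex (G := T) (inf_le_right : M ⊓ L ≤ L)
    rw [Subgroup.inf_relIndex_right] at h4
    change M.relIndex L = p
    apply Nat.eq_of_mul_eq_mul_left (show 0 < Nat.card (M ⊓ L : Subgroup T) from Nat.card_pos)
    rw [h4, h1, mul_comm]

end pnil

end Cfsg.Agent.H570.PNil
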