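import Cfsg.Agent.H570.Quot
import Cfsg.Agent.H570.Numbers

/-!
A simple group with less than `p ^ 2` Sylow `p`-subgroups of order `p` (`p ≥ 17`) is generated by
three of them (assuming the classification of such groups for smaller orders), and
`|C(P) : P| ≤ (k e)²`.
-/

set_option autoImplicit false

namespace Cfsg.Agent.H570.PartB

open Subgroup Cfsg.Agent.H571.SylowNumber Cfsg.Agent.H570.PNil Cfsg.Agent.H570.Gen
  Cfsg.Agent.H570.Quot Cfsg.Agent.H570.Numbers Cfsg.Agent.SmallSimple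

universe u

variable {G : Type u} [Group G] [Finite G] {p : ℕ} [hp : Fact p.Prime]

theorem mem_smul_iff {P : Sylow p G} {g x : G} : x ∈ (g • P : Sylow p G) ↔ g⁻¹ * x * g ∈ P := by
  rw [← SetLike.mem_coe, Sylow.coe_smul, Set.mem_smul_set_iff_inv_smul_mem, SetLike.mem_coe]
  have h3 : (MulAut.conj g)⁻¹ • x = g⁻¹ * x * g := by
    rw [← map_inv]; simp [MulAut.smul_def]
  rw [h3]

/-- A subgroup of a simple group containing all Sylow `p`-subgroups is the whole group. -/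
theorem eq_top_of_forall_le [IsSimpleGroup G] (hd : p ∣ Nat.card G) {L : Subgroup G}
    (h : ∀ Q : Sylow p G, (Q : Subgroup G) ≤ L) : L = ⊤ := by
  obtain ⟨P⟩ : Nonempty (Sylow p G) := inferInstance
  have h1 : Subgroup.normalClosure (P : Set G) ≤ L := by
    refine (Subgroup.closure_le L).2 ?_
    intro b hb
    rw [Group.mem_conjugatesOfSet_iff] at hb
    obtain ⟨a, ha, hab⟩ := hb
    obtain ⟨c, rfl⟩ := isConj_iff.1 hab
    refine h (c • P) ?_
    change c * a * c⁻¹ ∈ (c • P : Sylow p G)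
    rw [mem_smul_iff]
    have : c⁻¹ * (c * a * c⁻¹) * c = a := by group
    rw [this]; exact ha
  rcases (Subgroup.normalClosure_normal (s := (P : Set G))).eq_bot_or_eq_top with h2 | h2
  · exfalso
    have h3 : (P : Subgroup G) ≤ ⊥ := h2 ▸ Subgroup.subset_normalClosure
    exact P.ne_bot_of_dvd_card hd (le_bot_iff.1 h3)
  · exact top_le_iff.1 (h2 ▸ h1)

/-- A simple non-abelian group has no normal `p`-complement of index `p`. -/
theorem not_isPNil [IsSimpleGroup G] (hG : ¬ IsMulCommutative G) : ¬ IsPNil p G := by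
  rintro ⟨M, hM, hMp, hMi⟩
  rcases hM.eq_bot_or_eq_top with h | h
  · rw [h, Subgroup.index_bot] at hMi
    exact Embed.card_not_prime_of_not_comm hG (hMi ▸ hp.out)
  · rw [h, Subgroup.index_top] at hMi
    exact hp.out.one_lt.ne hMi

/-- If `X` is a normal subgroup of `L` of order divisible by `p`, it contains all the Sylow
`p`-subgroups. -/
theorem normal_eq_top (hord : ∀ P : Sylow p G, Nat.card P = p) {L : Subgroup G}
    (P : Sylow p G) (hPL : (P : Subgroup G) ≤ L)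
    (hgen : ∀ X : Subgroup G, (∀ Q : Sylow p G, (Q : Subgroup G) ≤ L → (Q : Subgroup G) ≤ X) →
      L ≤ X) (X : Subgroup L) (hX : X.Normal) (hd : p ∣ Nat.card X) : X = ⊤ := by
  have h1 : L ≤ X.map L.subtype := by
    apply hgen
    intro Q hQ
    -- a Sylow subgroup of `X`
    obtain ⟨R⟩ : Nonempty (Sylow p X) := inferInstance
    have h2 : IsPGroup p ((R : Subgroup X).map X.subtype) := R.isPGroup'.map _
    obtain ⟨R', hR'⟩ := h2.exists_le_sylow
    obtain ⟨t, ht⟩ := MulAction.exists_smul_eq L R' (Q.subtype hQ)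
    -- `R = R'` by orders
    have h3 : Nat.card ((R : Subgroup X).map X.subtype) = Nat.card (R : Subgroup X) :=
      Nat.card_congr ((R : Subgroup X).equivMapOfInjective X.subtype X.subtype_injective).symm.toEquiv
    have h4 : p ∣ Nat.card (R : Subgroup X) := by
      obtain ⟨k, hk⟩ := (IsPGroup.iff_card).1 R.isPGroup'
      have hk0 : k ≠ 0 := by
        rintro rfl
        rw [pow_zero] at hk
        exact R.ne_bot_of_dvd_card hd (Subgroup.card_eq_one.1 hk)
      rw [hk]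
      exact dvd_pow_self p hk0
    have h5 : Nat.card (R' : Subgroup L) = p := by
      have h6 : Nat.card (R' : Subgroup L) = Nat.card (P.subtype hPL : Subgroup L) := by
        rw [R'.card_eq_multiplicity, (P.subtype hPL).card_eq_multiplicity]
      rw [h6]
      exact (Nat.card_congr (Subgroup.subgroupOfEquivOfLe hPL).toEquiv).trans (hord P)
    have h6 : (R : Subgroup X).map X.subtype = (R' : Subgroup L) := by
      apply Subgroup.eq_of_le_of_card_ge hR'
      rw [h5, h3]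
      exact Nat.le_of_dvd Nat.card_pos h4
    have h7 : (R' : Subgroup L) ≤ X := h6 ▸ Subgroup.map_subtype_le _
    intro y hy
    have h8 : (⟨y, hQ hy⟩ : L) ∈ (Q.subtype hQ : Subgroup L) := hy
    have h9 : (⟨y, hQ hy⟩ : L) ∈ (t • R' : Sylow p L) := by rw [ht]; exact h8
    rw [mem_smul_iff] at h9
    have h10 := hX.conj_mem _ (h7 h9) t
    have h11 : t * (t⁻¹ * ⟨y, hQ hy⟩ * t) * t⁻¹ = ⟨y, hQ hy⟩ := by group
    rw [h11] at h10
    exact ⟨_, h10, rfl⟩
  rw [eq_top_iff]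
  intro x _
  obtain ⟨y, hy, hyx⟩ := h1 x.2
  have : y = x := Subtype.ext hyx
  rw [← this]
  exact hy

/-- Order and Sylow number. -/
def Row (p o n : ℕ) : Prop :=
  (2 * o = p * (p ^ 2 - 1) ∧ n = p + 1) ∨ (o = p * (p - 1) * (p - 2) ∧ 2 * n = (p - 1) * (p - 2)) ∨
    (o = p * (p + 1) * (p + 2) ∧ 2 * n = (p + 1) * (p + 2))

theorem row_of_ordList {S : Type*} [Group S] [Finite S] [IsSimpleGroup S]
    (hS : ¬ IsMulCommutative S) (hp17 : 17 ≤ p) (h : OrdList p (Nat.card S)) :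
    Row p (Nat.card S) (Nat.card (Sylow p S)) := by
  rcases h with h | h | h | h
  · exact Or.inl ⟨h, card_a hS (by omega) h⟩
  · omega
  · exact Or.inr (Or.inl ⟨h, card_b hS (by omega) h⟩)
  · exact Or.inr (Or.inr ⟨h, card_c hS (by omega) h⟩)

omit hp in
theorem row_arith {o₁ o₂ n₁ n₂ : ℕ} (hp17 : 17 ≤ p) (h₁ : Row p o₁ n₁) (h₂ : Row p o₂ n₂)
    (hd : o₁ ∣ o₂) : n₁ = n₂ := by
  obtain ⟨q, rfl⟩ : ∃ q, p = q + 17 := ⟨p - 17, by omega⟩
  have e0 : (q + 17) ^ 2 - 1 = (q + 16) * (q + 18) := by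
    have : (q + 17) ^ 2 = (q + 16) * (q + 18) + 1 := by ring
    omega
  unfold Row at h₁ h₂
  rw [e0, show q + 17 - 1 = q + 16 by omega, show q + 17 - 2 = q + 15 by omega] at h₁ h₂
  have hd2 : 2 * o₁ ∣ 2 * o₂ := Nat.mul_dvd_mul_left 2 hd
  rcases h₁ with ⟨h1, h2⟩ | ⟨h1, h2⟩ | ⟨h1, h2⟩ <;> rcases h₂ with ⟨h3, h4⟩ | ⟨h3, h4⟩ | ⟨h3, h4⟩
  · omega
  · exfalso
    rw [h1, h3] at hd2
    have h5 : (q + 17) * (q + 16) * (q + 18) ∣ (q + 17) * (q + 16) * (2 * (q + 15)) := by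
      have e1 : (q + 17) * (q + 16) * (q + 18) = (q + 17) * ((q + 16) * (q + 18)) := by ring
      have e2 : (q + 17) * (q + 16) * (2 * (q + 15)) = 2 * ((q + 17) * (q + 16) * (q + 15)) := by ring
      rw [e1, e2]; exact hd2
    have h6 := Nat.dvd_of_mul_dvd_mul_left (by positivity) h5
    have h7 : (q + 18) ∣ 2 * (q + 15) + 6 := ⟨2, by ring⟩
    have h8 := Nat.le_of_dvd (by norm_num) ((Nat.dvd_add_right h6).1 h7)
    omega
  · exfalso
    rw [h1, h3] at hd2
    have h5 : (q + 17) * (q + 18) * (q + 16) ∣ (q + 17) * (q + 18) * (2 * (q + 19)) := by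
      have e1 : (q + 17) * (q + 18) * (q + 16) = (q + 17) * ((q + 16) * (q + 18)) := by ring
      have e2 : (q + 17) * (q + 18) * (2 * (q + 19)) =
        2 * ((q + 17) * (q + 17 + 1) * (q + 17 + 2)) := by ring
      rw [e1, e2]; exact hd2
    have h6 := Nat.dvd_of_mul_dvd_mul_left (by positivity) h5
    have h7 : 2 * (q + 19) = 6 + (q + 16) * 2 := by ring
    rw [h7] at h6
    have h8 := Nat.le_of_dvd (by norm_num) ((Nat.dvd_add_left (Dvd.intro _ rfl)).1 h6)
    omega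
  · exfalso
    rw [h1, h3] at hd2
    have h5 : (q + 17) * (q + 16) * (2 * (q + 15)) ∣ (q + 17) * (q + 16) * (q + 18) := by
      have e1 : (q + 17) * (q + 16) * (q + 18) = (q + 17) * ((q + 16) * (q + 18)) := by ring
      have e2 : (q + 17) * (q + 16) * (2 * (q + 15)) = 2 * ((q + 17) * (q + 16) * (q + 15)) := by ring
      rw [e1, e2]; exact hd2
    have h6 := Nat.dvd_of_mul_dvd_mul_left (by positivity) h5
    have h8 := Nat.le_of_dvd (by positivity) h6
    omega
  · omega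
  · exfalso
    rw [h1, h3] at hd
    have h5 : (q + 17) * ((q + 16) * (q + 15)) ∣ (q + 17) * ((q + 18) * (q + 19)) := by
      have e1 : (q + 17) * ((q + 16) * (q + 15)) = (q + 17) * (q + 16) * (q + 15) := by ring
      have e2 : (q + 17) * ((q + 18) * (q + 19)) = (q + 17) * (q + 17 + 1) * (q + 17 + 2) := by ring
      rw [e1, e2]; exact hd
    have h6 := Nat.dvd_of_mul_dvd_mul_left (by positivity) h5
    have h7 : (q + 18) * (q + 19) = 6 * (q + 17) + (q + 16) * (q + 15) := by ring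
    rw [h7] at h6
    have h8 := Nat.le_of_dvd (by positivity) ((Nat.dvd_add_left dvd_rfl).1 h6)
    nlinarith
  · exfalso
    have h5 := Nat.le_of_dvd (by rw [h3]; positivity) hd2
    rw [h1, h3] at h5
    have e1 : (q + 17) * ((q + 16) * (q + 18)) < 2 * ((q + 17) * (q + 17 + 1) * (q + 17 + 2)) := by
      have e2 : 2 * ((q + 17) * (q + 17 + 1) * (q + 17 + 2)) =
        (q + 17) * (q + 18) * (2 * (q + 19)) := by ring
      have e3 : (q + 17) * ((q + 16) * (q + 18)) = (q + 17) * (q + 18) * (q + 16) := by ring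
      rw [e2, e3]
      exact Nat.mul_lt_mul_of_pos_left (by omega) (by positivity)
    omega
  · exfalso
    have h5 := Nat.le_of_dvd (by rw [h3]; positivity) hd
    rw [h1, h3] at h5
    have e1 : (q + 17) * (q + 16) * (q + 15) < (q + 17) * (q + 17 + 1) * (q + 17 + 2) := by
      rw [mul_assoc, mul_assoc]
      refine Nat.mul_lt_mul_of_pos_left ?_ (by positivity)
      exact Nat.mul_lt_mul'' (by omega) (by omega)
    omega
  · omega

/-- **Generation by three Sylow subgroups.** -/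
theorem exists_three [IsSimpleGroup G] (hG : ¬ IsMulCommutative G) (hp17 : 17 ≤ p)
    (hd : p ∣ Nat.card G) (hord : ∀ P : Sylow p G, Nat.card P = p)
    (hn : Nat.card (Sylow p G) < p ^ 2)
    (IH : ∀ (S : Type u) [Group S] [Finite S] [IsSimpleGroup S], ¬ IsMulCommutative S →
      Nat.card S < Nat.card G → p ∣ Nat.card S → Nat.card (Sylow p S) < p ^ 2 →
      OrdList p (Nat.card S)) :
    ∃ P Q R : Sylow p G, (P : Subgroup G) ⊔ Q ⊔ R = ⊤ := by
  have hlt : ∀ (S : Sylow p G) (L : Subgroup G), (S : Subgroup G) ≤ L →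
      Nat.card (Sylow p L) < p ^ 2 := by
    intro S L hS
    refine lt_of_le_of_lt ?_ hn
    have h1 := card_sylow_le S hS (le_top : L ≤ ⊤)
    rwa [card_sylow_congr (Subgroup.topEquiv : (⊤ : Subgroup G) ≃* G)] at h1
  -- two distinct Sylow subgroups
  obtain ⟨P₀, Q₀, hPQ₀⟩ : ∃ P Q : Sylow p G, P ≠ Q := by
    have h1 : 1 < Nat.card (Sylow p G) :=
      lt_of_lt_of_le (by norm_num) (Embed.five_le_card_sylow hG hd)
    have h2 := Finite.one_lt_card_iff_nontrivial.1 h1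
    exact exists_pair_ne _
  -- a pair which does not generate a group with a normal `p`-complement
  obtain ⟨P, Q, hPQ, hnil⟩ : ∃ P Q : Sylow p G, P ≠ Q ∧
      ¬ IsPNil p ((P : Subgroup G) ⊔ Q : Subgroup G) := by
    by_contra hcon
    push Not at hcon
    have h1 := linear_space hord hn hcon hPQ₀
    have h2 := eq_top_of_forall_le hd h1
    have h3 := hcon P₀ Q₀ hPQ₀
    rw [h2] at h3
    exact not_isPNil hG (isPNil_congr Subgroup.topEquiv h3)
  by_cases h1 : (P : Subgroup G) ⊔ Q = ⊤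
  · exact ⟨P, Q, P, by rw [h1, top_sup_eq]⟩
  obtain ⟨R, hR⟩ : ∃ R : Sylow p G, ¬ (R : Subgroup G) ≤ (P : Subgroup G) ⊔ Q := by
    by_contra hcon
    push Not at hcon
    exact h1 (eq_top_of_forall_le hd hcon)
  refine ⟨P, Q, R, ?_⟩
  by_contra h2
  set L₁ : Subgroup G := (P : Subgroup G) ⊔ Q with hL₁
  set L₂ : Subgroup G := L₁ ⊔ R with hL₂
  have hPL₁ : (P : Subgroup G) ≤ L₁ := le_sup_left
  have h12 : L₁ ≤ L₂ := le_sup_left
  have hPL₂ : (P : Subgroup G) ≤ L₂ := hPL₁.trans h12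
  have hnil₂ : ¬ IsPNil p L₂ := fun h => hnil (isPNil_of_le P (hord P) hPL₁ h12 h).1
  have hgen₁ : ∀ X : Subgroup G, (∀ S : Sylow p G, (S : Subgroup G) ≤ L₁ → (S : Subgroup G) ≤ X) →
      L₁ ≤ X := fun X hX => sup_le (hX P hPL₁) (hX Q le_sup_right)
  have hgen₂ : ∀ X : Subgroup G, (∀ S : Sylow p G, (S : Subgroup G) ≤ L₂ → (S : Subgroup G) ≤ X) →
      L₂ ≤ X := fun X hX => sup_le (hgen₁ X fun S hS => hX S (hS.trans h12)) (hX R le_sup_right)
  have hcl : ∀ L : Subgroup G, L ≠ ⊤ → Nat.card L < Nat.card G := by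
    intro L hL
    rcases (Nat.le_of_dvd Nat.card_pos (Subgroup.card_subgroup_dvd_card L)).lt_or_eq with h | h
    · exact h
    · exact absurd (Subgroup.eq_top_of_card_eq L h) hL
  have hsub : ∀ (L : Subgroup G) (hPL : (P : Subgroup G) ≤ L), Nat.card (P.subtype hPL) = p :=
    fun L hPL => (Nat.card_congr (Subgroup.subgroupOfEquivOfLe hPL).toEquiv).trans (hord P)
  obtain ⟨M₁, hM₁n, hM₁s, hM₁c, hM₁d, hM₁N, hM₁max⟩ := exists_simple_quot (P.subtype hPL₁)
    (hsub L₁ hPL₁) (normal_eq_top hord P hPL₁ hgen₁) hnil (hlt P L₁ hPL₁)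
  obtain ⟨M₂, hM₂n, hM₂s, hM₂c, hM₂d, hM₂N, hM₂max⟩ := exists_simple_quot (P.subtype hPL₂)
    (hsub L₂ hPL₂) (normal_eq_top hord P hPL₂ hgen₂) hnil₂ (hlt P L₂ hPL₂)
  have hquot : ∀ (L : Subgroup G) (M : Subgroup L) [M.Normal], L ≠ ⊤ →
      Nat.card (L ⧸ M) < Nat.card G := by
    intro L M _ hL
    refine lt_of_le_of_lt ?_ (hcl L hL)
    exact Nat.card_le_card_of_surjective _ (QuotientGroup.mk'_surjective M)
  have o₁ := IH (L₁ ⧸ M₁) hM₁c (hquot L₁ M₁ h1) hM₁d (by rw [hM₁N]; exact hlt P L₁ hPL₁)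
  have o₂ := IH (L₂ ⧸ M₂) hM₂c (hquot L₂ M₂ h2) hM₂d (by rw [hM₂N]; exact hlt P L₂ hPL₂)
  have r₁ := row_of_ordList hM₁c hp17 o₁
  have r₂ := row_of_ordList hM₂c hp17 o₂
  have hM₂p : ¬ p ∣ Nat.card M₂ := by
    intro h
    have h3 := normal_eq_top hord P hPL₂ hgen₂ M₂ hM₂n h
    have h4 : Nat.card (L₂ ⧸ M₂) = 1 := by
      rw [h3]
      exact Subgroup.index_top
    rw [h4] at hM₂d
    exact hp.out.one_lt.ne' (Nat.dvd_one.1 hM₂d)
  have hdv := card_quot_dvd h12 M₁ M₂ hM₁max hM₂p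
  have h5 := row_arith hp17 r₁ r₂ hdv
  rw [hM₁N, hM₂N] at h5
  exact hR (le_of_card_eq P hPL₁ h12 h5 R le_sup_right)

end Cfsg.Agent.H570.PartB
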